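import Mathlib
import Groth.Agent.GenFreeRed.Main

/-!
# The relative assassin near a relatively associated prime: algebra
-/

set_option autoImplicit false
set_option linter.style.haveILetI false

universe u

namespace Groth.Agent.RelAssGen

/-- A prime of a finite type algebra over a domain lying over zero is finitely generated up to torsion. -/
theorem exists_finset_gen (A B : Type u) [CommRing A] [IsDomain A] [CommRing B] [Algebra A B]
    [Algebra.FiniteType A B] (q : Ideal B) :
    ∃ G : Finset B, (↑G : Set B) ⊆ q ∧ ∀ b ∈ q, ∃ c : A, c ≠ 0 ∧ algebraMap A B c * b ∈ Ideal.span (G : Set B) := by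
  classical
  let K := FractionRing A
  let S := Algebra.algebraMapSubmonoid B (nonZeroDivisors A)
  let BK := TensorProduct A B K
  haveI : IsLocalization S BK := inferInstance
  haveI : IsNoetherianRing BK := by
    haveI : Algebra.FiniteType K (TensorProduct A K B) := inferInstance
    haveI : IsNoetherianRing (TensorProduct A K B) := Algebra.FiniteType.isNoetherianRing K _
    exact isNoetherianRing_of_ringEquiv (TensorProduct A K B) (Algebra.TensorProduct.comm A K B).toRingEquiv
  obtain ⟨s, hs, hspan⟩ := Submodule.fg_span_iff_fg_span_finset_subset _ |>.1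
    ((IsNoetherian.noetherian (q.map (algebraMap B BK))) : (Submodule.span BK ((algebraMap B BK) '' (q : Set B))).FG)
  choose pre hpre using fun z : s => hs z.2
  refine ⟨Finset.univ.image pre, fun x hx => ?_, fun b hb => ?_⟩
  · obtain ⟨z, -, rfl⟩ := Finset.mem_image.1 hx
    exact (hpre z).1
  · have hb' : algebraMap B BK b ∈ (Ideal.span ((Finset.univ.image pre : Finset B) : Set B)).map (algebraMap B BK) := by
      have h1 : algebraMap B BK b ∈ Submodule.span BK ((s : Set BK)) := hspan ▸ Submodule.subset_span ⟨b, hb, rfl⟩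
      refine (Submodule.span_le.2 fun z hz => ?_ : Submodule.span BK (s : Set BK) ≤ _) h1
      rw [Ideal.map_span]
      refine Submodule.subset_span ⟨pre ⟨z, hz⟩, ?_, (hpre ⟨z, hz⟩).2⟩
      exact Finset.mem_image_of_mem pre (Finset.mem_univ _)
    obtain ⟨c, hc, hcb⟩ := (IsLocalization.algebraMap_mem_map_algebraMap_iff S BK _ b).1 hb'
    obtain ⟨c', hc', rfl⟩ := hc
    exact ⟨c', nonZeroDivisors.ne_zero hc', hcb⟩

/-- Torsion in a module which becomes free after inverting `c`. -/
theorem exists_pow_smul_eq_zero {A W : Type u} [CommRing A] [IsDomain A] [AddCommGroup W] [Module A W] (c : A)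
    (hc : c ≠ 0) [Module.Free (Localization (Submonoid.powers c)) (LocalizedModule (Submonoid.powers c) W)]
    (x : W) (e : A) (he : e ≠ 0) (hx : e • x = 0) : ∃ k : ℕ, c ^ k • x = 0 := by
  let Ac := Localization (Submonoid.powers c)
  let L := LocalizedModule (Submonoid.powers c) W
  haveI : IsDomain Ac := IsLocalization.isDomain_localization (powers_le_nonZeroDivisors_of_noZeroDivisors hc)
  let z : L := LocalizedModule.mk x 1
  have h2 : algebraMap A Ac e • z = 0 := by
    rw [algebraMap_smul, LocalizedModule.smul'_mk, hx, LocalizedModule.zero_mk]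
  let β := Module.Free.chooseBasis Ac L
  have h3 : z = 0 := by
    refine β.ext_elem fun i => ?_
    have h4 := congr(β.repr $h2 i)
    rw [map_smul, Finsupp.smul_apply, smul_eq_mul, map_zero, Finsupp.zero_apply] at h4
    rw [map_zero, Finsupp.zero_apply]
    exact (mul_eq_zero.1 h4).resolve_left fun h => he (IsLocalization.injective Ac
      (powers_le_nonZeroDivisors_of_noZeroDivisors hc) (h.trans (map_zero _).symm))
  obtain ⟨⟨_, k, rfl⟩, hk⟩ := LocalizedModule.mk_eq.1 (h3.trans (LocalizedModule.zero_mk 1).symm)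
  simp only [smul_zero, one_smul, Submonoid.smul_def] at hk
  exact ⟨k, hk⟩

/-- A cyclic submodule with cokernel free after inverting `c` is pure after inverting `c`. -/
theorem exists_pure {A B M : Type u} [CommRing A] [CommRing B] [Algebra A B] [AddCommGroup M] [Module A M]
    [Module B M] [IsScalarTower A B M] (c : A) (m : M)
    [Module.Free (Localization (Submonoid.powers c)) (LocalizedModule (Submonoid.powers c) (M ⧸ Submodule.span B {m}))]
    (p : Ideal A) (s : B) (hs : s • m ∈ p • (⊤ : Submodule A M)) :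
    ∃ k : ℕ, ∃ u ∈ p.map (algebraMap A B), ∃ j : ℕ, c ^ (k + j) • (s • m) = c ^ j • (u • m) := by
  classical
  let Ac := Localization (Submonoid.powers c)
  let Ma := LocalizedModule (Submonoid.powers c) M
  let π₀ : M →ₗ[A] M ⧸ Submodule.span B {m} := (Submodule.mkQ _).restrictScalars A
  let π : Ma →ₗ[Ac] LocalizedModule (Submonoid.powers c) (M ⧸ Submodule.span B {m}) :=
    LocalizedModule.map (Submonoid.powers c) π₀
  have hπ₀ : Function.Surjective π₀ := fun y => Submodule.mkQ_surjective (Submodule.span B {m}) y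
  have hπs : Function.Surjective π := LocalizedModule.map_surjective (Submonoid.powers c) π₀ hπ₀
  obtain ⟨σ, hσ⟩ := Module.projective_lifting_property π LinearMap.id hπs
  let ρ : Ma →ₗ[Ac] Ma := LinearMap.id - σ ∘ₗ π
  let mk : M →ₗ[A] Ma := LocalizedModule.mkLinearMap (Submonoid.powers c) M
  have hρ : ∀ z, π z = 0 → ρ z = z := fun z hz => by simp [ρ, hz]
  have hker : ∀ z : Ma, π z = 0 → ∃ k : ℕ, ∃ b : B, c ^ k • z = mk (b • m) := by
    intro z hz
    induction z using LocalizedModule.induction_on with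
    | h y s =>
      rw [LocalizedModule.map_mk] at hz
      obtain ⟨⟨_, j, rfl⟩, hj⟩ := LocalizedModule.mk_eq.1 (hz.trans (LocalizedModule.zero_mk 1).symm)
      simp only [smul_zero, one_smul, Submonoid.smul_def] at hj
      have hj' : c ^ j • y ∈ Submodule.span B {m} := by
        refine (Submodule.Quotient.mk_eq_zero _).1 ?_
        rw [Submodule.Quotient.mk_smul]
        exact hj
      obtain ⟨b, hb⟩ := Submodule.mem_span_singleton.1 hj'
      obtain ⟨_, i, rfl⟩ := s
      refine ⟨i + j, b, ?_⟩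
      rw [hb, LocalizedModule.smul'_mk]
      show LocalizedModule.mk (c ^ (i + j) • y) _ = LocalizedModule.mk (c ^ j • y) 1
      rw [LocalizedModule.mk_eq]
      exact ⟨1, by simp [Submonoid.smul_def, smul_smul, pow_add]⟩
  have hρA : ∀ (e : A) (z : Ma), ρ (e • z) = e • ρ z := fun e z => by
    rw [← algebraMap_smul Ac e z, map_smul, algebraMap_smul]
  have key : ∀ x ∈ p • (⊤ : Submodule A M), ∃ k : ℕ, ∃ u ∈ p.map (algebraMap A B), c ^ k • ρ (mk x) = mk (u • m) := by
    intro x hx
    refine Submodule.smul_induction_on hx (fun e he y _ => ?_) ?_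
    · obtain ⟨k, b, hkb⟩ := hker (ρ (mk y)) (by
        simp only [ρ, LinearMap.sub_apply, LinearMap.id_coe, id_eq, LinearMap.comp_apply, map_sub]
        rw [show π (σ (π (mk y))) = π (mk y) from LinearMap.congr_fun hσ _, sub_self])
      refine ⟨k, algebraMap A B e * b, Ideal.mul_mem_right _ _ (Ideal.mem_map_of_mem _ he), ?_⟩
      rw [mk.map_smul, hρA, smul_comm, hkb, mul_smul, algebraMap_smul, mk.map_smul]
    · rintro x y ⟨k, u, hu, hx⟩ ⟨l, v, hv, hy⟩
      refine ⟨k + l, algebraMap A B (c ^ l) * u + algebraMap A B (c ^ k) * v,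
        add_mem (Ideal.mul_mem_left _ _ hu) (Ideal.mul_mem_left _ _ hv), ?_⟩
      rw [map_add, map_add, smul_add, add_smul, map_add, mul_smul, mul_smul, algebraMap_smul, algebraMap_smul,
        mk.map_smul, mk.map_smul, ← hx, ← hy, smul_smul, smul_smul, ← pow_add, ← pow_add, add_comm l k]
  obtain ⟨k, u, hu, hku⟩ := key _ hs
  rw [hρ _ (by
    show π (LocalizedModule.mk (s • m) 1) = 0
    rw [LocalizedModule.map_mk, show π₀ (s • m) = 0 from (Submodule.Quotient.mk_eq_zero _).2
      (Submodule.mem_span_singleton.2 ⟨s, rfl⟩), LocalizedModule.zero_mk]), ← mk.map_smul] at hku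
  obtain ⟨⟨_, j, rfl⟩, hj⟩ := (IsLocalizedModule.eq_iff_exists (Submonoid.powers c) mk).1 hku
  simp only [Submonoid.smul_def] at hj
  exact ⟨k, u, hu, j, by rw [add_comm, pow_add, mul_smul]; exact hj⟩

/-- Points over a prime in a nonzero algebra which becomes free after inverting `a`. -/
theorem exists_prime_over {A S : Type u} [CommRing A] [CommRing S] [Algebra A S] (a : A)
    [Module.Free (Localization (Submonoid.powers a)) (LocalizedModule (Submonoid.powers a) S)]
    (hne : ∀ k : ℕ, algebraMap A S (a ^ k) ≠ 0) (p : Ideal A) (hp : p.IsPrime) (hap : a ∉ p) :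
    ∃ P : Ideal S, P.IsPrime ∧ P.comap (algebraMap A S) = p := by
  let Aa := Localization (Submonoid.powers a)
  let L := LocalizedModule (Submonoid.powers a) S
  have hdis : Disjoint (Submonoid.powers a : Set A) p :=
    (Ideal.disjoint_powers_iff_notMem a hp.isRadical).2 hap
  haveI : Nontrivial L := by
    refine ⟨⟨LocalizedModule.mk 1 1, LocalizedModule.mk 0 1, fun h => ?_⟩⟩
    obtain ⟨⟨_, k, rfl⟩, hk⟩ := LocalizedModule.mk_eq.1 h
    simp only [smul_zero, one_smul, Submonoid.smul_def, Algebra.smul_def, mul_one] at hk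
    exact hne k hk
  let β := Module.Free.chooseBasis Aa L
  haveI : Nonempty (Module.Free.ChooseBasisIndex Aa L) := β.index_nonempty
  obtain ⟨i⟩ := (inferInstance : Nonempty (Module.Free.ChooseBasisIndex Aa L))
  have hmk : ∀ x ∈ p.map (algebraMap A S), ∀ (y : S) (d : Submonoid.powers a),
      β.repr (LocalizedModule.mk (x * y) d) i ∈ p.map (algebraMap A Aa) := by
    intro x hx
    induction hx using Submodule.span_induction with
    | mem x hx =>
      obtain ⟨e, he, rfl⟩ := hx
      intro y d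
      rw [show LocalizedModule.mk (algebraMap A S e * y) d = algebraMap A Aa e • (LocalizedModule.mk y d : L) by
        rw [algebraMap_smul, LocalizedModule.smul'_mk, Algebra.smul_def], map_smul, Finsupp.smul_apply,
        smul_eq_mul]
      exact Ideal.mul_mem_right _ _ (Ideal.mem_map_of_mem _ he)
    | zero => intro y d; rw [zero_mul, LocalizedModule.zero_mk, map_zero, Finsupp.zero_apply]; exact zero_mem _
    | add x x' _ _ hx hy =>
      intro y d
      rw [show LocalizedModule.mk ((x + x') * y) d =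
          (LocalizedModule.mk (x * y) d : L) + LocalizedModule.mk (x' * y) d from ?_, map_add, Finsupp.add_apply]
      · exact add_mem (hx y d) (hy y d)
      · rw [LocalizedModule.mk_add_mk, LocalizedModule.mk_eq, add_mul]
        exact ⟨1, by simp [Submonoid.smul_def, smul_smul, ← smul_add]⟩
    | smul r x _ hx =>
      intro y d
      rw [smul_eq_mul, mul_comm r x, mul_assoc]
      exact hx _ d
  have hdisj : Disjoint ((p.map (algebraMap A S) : Ideal S) : Set S)
      (Algebra.algebraMapSubmonoid S p.primeCompl : Set S) := by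
    rw [Set.disjoint_left]
    rintro _ hx ⟨t, ht, rfl⟩
    refine ht ?_
    have hcoord : β.repr (algebraMap A Aa t • β i) i ∈ p.map (algebraMap A Aa) := by
      have hgen : ∀ z : L, β.repr (algebraMap A Aa t • z) i ∈ p.map (algebraMap A Aa) := by
        intro z
        induction z using LocalizedModule.induction_on with
        | h y d =>
          rw [algebraMap_smul, LocalizedModule.smul'_mk, Algebra.smul_def]
          exact hmk _ hx y d
      exact hgen _
    rw [map_smul, Finsupp.smul_apply, β.repr_self, Finsupp.single_eq_same, smul_eq_mul, mul_one] at hcoord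
    exact (IsLocalization.comap_map_of_isPrime_disjoint _ Aa hp hdis) ▸ hcoord
  obtain ⟨P, hP, hle, hPd⟩ := Ideal.exists_le_prime_disjoint _ _ hdisj
  refine ⟨P, hP, le_antisymm (fun t ht => ?_) (Ideal.map_le_iff_le_comap.1 hle)⟩
  by_contra htp
  exact Set.disjoint_left.1 hPd ht ⟨t, htp, rfl⟩

/-- The pieces of information near a relatively associated prime, over a domain. -/
theorem core_domain (A B M : Type u) [CommRing A] [IsDomain A] [CommRing B] [Algebra A B] [Algebra.FiniteType A B]
    [AddCommGroup M] [Module A M] [Module B M] [IsScalarTower A B M] [Module.Finite B M]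
    (q : Ideal B) [q.IsPrime] (hq : q.comap (algebraMap A B) = ⊥) (m : M)
    (hann : ∀ b ∈ q, ∃ t, t ∉ q ∧ ∃ n : ℕ, (t * b ^ n) • m = 0) :
    ∃ g : B, g ∉ q ∧ ∃ a : A, a ≠ 0 ∧
      (∀ r : Ideal B, r.IsPrime → (∀ b : B, b • m = 0 → b ∈ r) → g ∉ r → algebraMap A B a ∉ r → q ≤ r) ∧
      (∀ (p : Ideal A) (s : B), s • m ∈ p • (⊤ : Submodule A M) →
        ∃ k : ℕ, ∃ u ∈ p.map (algebraMap A B), (algebraMap A B a ^ k * s - u) • m = 0) ∧
      (∀ p : Ideal A, p.IsPrime → a ∉ p →
        ∃ r : Ideal B, r.IsPrime ∧ r.comap (algebraMap A B) = p ∧ q ≤ r ∧ g ∉ r) := by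
  classical
  obtain ⟨G, hGq, hG⟩ := exists_finset_gen A B q
  have hG' : ∀ x : G, ∃ t, t ∉ q ∧ ∃ n : ℕ, (t * (x : B) ^ n) • m = 0 := fun x => hann x (hGq x.2)
  choose t htq n hn using hG'
  let g := ∏ x : G, t x
  have hgq : g ∉ q := fun h => by
    obtain ⟨x, -, hx⟩ := (Ideal.IsPrime.prod_mem_iff (p := q)).1 h
    exact htq x hx
  let W := B ⧸ Ideal.span (G : Set B)
  let N := M ⧸ Submodule.span B {m}
  let Bg := Localization.Away (Ideal.Quotient.mk q g)
  obtain ⟨c₁, hc₁, hW⟩ := GenFreeRed.exists_isGood A B W (1 : A) one_ne_zero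
  obtain ⟨c₂, hc₂, hN⟩ := GenFreeRed.exists_isGood A B N (1 * c₁) hc₁
  haveI : Algebra.FiniteType (B ⧸ q) Bg := IsLocalization.finiteType_of_monoid_fg (Submonoid.powers (Ideal.Quotient.mk q g)) Bg
  haveI : Algebra.FiniteType A (B ⧸ q) := inferInstance
  haveI : Algebra.FiniteType A Bg := Algebra.FiniteType.trans (S := B ⧸ q) inferInstance inferInstance
  obtain ⟨c₃, hc₃, hB⟩ := GenFreeRed.exists_isGood A Bg Bg (1 * c₁ * c₂) hc₂
  let a := 1 * c₁ * c₂ * c₃
  have ha : a ≠ 0 := hc₃
  refine ⟨g, hgq, a, ha, fun r hr hrI hgr har b hb => ?_, fun p s hs => ?_, fun p hp hap => ?_⟩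
  · have hGr : Ideal.span (G : Set B) ≤ r := Ideal.span_le.2 fun x hx => by
      have h1 : (g * x ^ n ⟨x, hx⟩) • m = 0 := by
        obtain ⟨e, he⟩ := Finset.dvd_prod_of_mem t (Finset.mem_univ (⟨x, hx⟩ : G))
        rw [show g = t ⟨x, hx⟩ * e from he, mul_comm (t ⟨x, hx⟩) e, mul_assoc, mul_smul, hn ⟨x, hx⟩, smul_zero]
      exact hr.mem_of_pow_mem _ ((hr.mem_or_mem (hrI _ h1)).resolve_left hgr)
    obtain ⟨c, hc0, hcb⟩ := hG b hb
    haveI := hW.1
    obtain ⟨k, hk⟩ := exists_pow_smul_eq_zero (W := W) (1 * c₁) hc₁ (Ideal.Quotient.mk _ b) c hc0 (by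
      rw [Algebra.smul_def, ← Ideal.Quotient.mk_algebraMap, ← map_mul, Ideal.Quotient.eq_zero_iff_mem.2 hcb])
    rw [Algebra.smul_def, ← Ideal.Quotient.mk_algebraMap, ← map_mul, Ideal.Quotient.eq_zero_iff_mem] at hk
    refine (hr.mem_or_mem (hGr hk)).resolve_left fun h => har ?_
    rw [map_pow] at h
    have h4 := hr.mem_of_pow_mem k h
    simp only [a, map_mul, map_one, one_mul] at h4 ⊢
    exact r.mul_mem_right _ (r.mul_mem_right _ h4)
  · haveI := hN.1
    obtain ⟨k, u, hu, j, hj⟩ := exists_pure (1 * c₁ * c₂) m p s hs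
    refine ⟨k + j, algebraMap A B (c₃ ^ (k + j) * (1 * c₁ * c₂) ^ j) * u, Ideal.mul_mem_left _ _ hu, ?_⟩
    have e1 : algebraMap A B a ^ (k + j) * s - algebraMap A B (c₃ ^ (k + j) * (1 * c₁ * c₂) ^ j) * u =
        algebraMap A B (c₃ ^ (k + j)) *
          (algebraMap A B ((1 * c₁ * c₂) ^ (k + j)) * s - algebraMap A B ((1 * c₁ * c₂) ^ j) * u) := by
      simp only [a, map_mul, map_pow, mul_pow]; ring
    rw [e1, mul_smul, sub_smul, mul_smul, mul_smul, algebraMap_smul (R := A) B ((1 * c₁ * c₂) ^ (k + j)),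
      algebraMap_smul (R := A) B ((1 * c₁ * c₂) ^ j), hj, sub_self, smul_zero]
  · haveI := hB.1
    have hinj : Function.Injective (algebraMap (B ⧸ q) Bg) := IsLocalization.injective Bg
      (powers_le_nonZeroDivisors_of_noZeroDivisors fun h => hgq (Ideal.Quotient.eq_zero_iff_mem.1 h))
    obtain ⟨P, hP, hPp⟩ := exists_prime_over (S := Bg) a (fun k h => by
      rw [IsScalarTower.algebraMap_apply A (B ⧸ q) Bg, ← map_zero (algebraMap (B ⧸ q) Bg)] at h
      have h0 := hinj h
      rw [← Ideal.Quotient.mk_algebraMap, Ideal.Quotient.eq_zero_iff_mem, ← Ideal.mem_comap, hq, Ideal.mem_bot] at h0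
      exact ha (eq_zero_of_pow_eq_zero h0)) p hp hap
    refine ⟨P.comap ((algebraMap (B ⧸ q) Bg).comp (Ideal.Quotient.mk q)), inferInstance, ?_, fun b hb => ?_, fun h => ?_⟩
    · rw [Ideal.comap_comap]
      refine Eq.trans (congrArg (fun φ => Ideal.comap φ P) ?_) hPp
      rw [IsScalarTower.algebraMap_eq A (B ⧸ q) Bg]
      rfl
    · rw [Ideal.mem_comap, RingHom.comp_apply, Ideal.Quotient.eq_zero_iff_mem.2 hb, map_zero]
      exact P.zero_mem
    · exact hP.ne_top (Ideal.eq_top_of_isUnit_mem _ h (IsLocalization.Away.algebraMap_isUnit (Ideal.Quotient.mk q g)))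

theorem mem_map_smul_top {A B M : Type u} [CommRing A] [CommRing B] [Algebra A B] [AddCommGroup M] [Module A M]
    [Module B M] [IsScalarTower A B M] (p : Ideal A) (x : M) :
    x ∈ p.map (algebraMap A B) • (⊤ : Submodule B M) ↔ x ∈ p • (⊤ : Submodule A M) := by
  constructor
  · intro hx
    refine Submodule.smul_induction_on hx (fun b hb y _ => ?_) fun x y => add_mem
    induction hb using Submodule.span_induction generalizing y with
    | mem b hb =>
      obtain ⟨e, he, rfl⟩ := hb
      rw [algebraMap_smul]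
      exact Submodule.smul_mem_smul he trivial
    | zero => rw [zero_smul]; exact zero_mem _
    | add b b' _ _ h h' => rw [add_smul]; exact add_mem (h y ‹_›) (h' y ‹_›)
    | smul r b _ h => rw [smul_eq_mul, mul_comm, mul_smul]; exact h _ trivial
  · intro hx
    refine Submodule.smul_induction_on hx (fun e he y _ => ?_) fun x y => add_mem
    rw [← algebraMap_smul B e y]
    exact Submodule.smul_mem_smul (Ideal.mem_map_of_mem _ he) trivial

/-- Near a relatively associated prime, the minimal primes over it in the fibres are relatively associated, and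
the fibres over the nearby primes of the base are nonempty. -/
theorem exists_ass_nhd {A B M : Type u} [CommRing A] [CommRing B] [Algebra A B] [Algebra.FiniteType A B]
    [AddCommGroup M] [Module A M] [Module B M] [IsScalarTower A B M] [Module.Finite B M]
    (q : Ideal B) [q.IsPrime] (m : M)
    (hann : ∀ b ∈ q, ∃ t, t ∉ q ∧ ∃ n : ℕ, (t * b ^ n) • m ∈ q.comap (algebraMap A B) • (⊤ : Submodule A M))
    (hm : ∀ s, s ∉ q → s • m ∉ q.comap (algebraMap A B) • (⊤ : Submodule A M)) :
    ∃ g : B, g ∉ q ∧ ∃ a : A, algebraMap A B a ∉ q ∧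
      (∀ r : Ideal B, r.IsPrime → q ≤ r → g ∉ r → algebraMap A B a ∉ r →
        (∀ r' : Ideal B, r'.IsPrime → q ≤ r' → r' ≤ r → r'.comap (algebraMap A B) = r.comap (algebraMap A B) → r' = r) →
        (∀ s, s ∉ r → s • m ∉ r.comap (algebraMap A B) • (⊤ : Submodule A M)) ∧
          ∀ r' : Ideal B, r'.IsPrime → r' ≤ r →
            (∀ b, b • m ∈ r.comap (algebraMap A B) • (⊤ : Submodule A M) → b ∈ r') → r' = r) ∧
      ∀ p : Ideal A, p.IsPrime → q.comap (algebraMap A B) ≤ p → a ∉ p →
        ∃ r : Ideal B, r.IsPrime ∧ r.comap (algebraMap A B) = p ∧ q ≤ r ∧ g ∉ r ∧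
          ∀ r' : Ideal B, r'.IsPrime → q ≤ r' → r' ≤ r → r'.comap (algebraMap A B) = r.comap (algebraMap A B) → r' = r := by
  let p₀ := q.comap (algebraMap A B)
  let A₀ := A ⧸ p₀
  let J := p₀.map (algebraMap A B)
  let B₀ := B ⧸ J
  let M₀ := M ⧸ J • (⊤ : Submodule B M)
  have hJq : J ≤ q := Ideal.map_le_iff_le_comap.2 le_rfl
  letI : Algebra A₀ B₀ := (Ideal.quotientMap J (algebraMap A B) Ideal.le_comap_map).toAlgebra
  haveI : IsScalarTower A A₀ B₀ := IsScalarTower.of_algebraMap_eq fun _ => rfl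
  haveI : Algebra.FiniteType A₀ B₀ := Algebra.FiniteType.of_restrictScalars_finiteType A A₀ B₀
  letI : Module A₀ M₀ := Module.compHom M₀ (algebraMap A₀ B₀)
  haveI : IsScalarTower A₀ B₀ M₀ := IsScalarTower.of_algebraMap_smul fun _ _ => rfl
  haveI : Module.Finite B₀ M₀ := Module.Finite.of_restrictScalars_finite B B₀ M₀
  let mkM : M →ₗ[B] M₀ := Submodule.mkQ _
  have hsmul : ∀ (b : B) (x : M), Ideal.Quotient.mk J b • mkM x = mkM (b • x) := fun b x => rfl
  have hzero : ∀ x : M, mkM x = 0 ↔ x ∈ p₀ • (⊤ : Submodule A M) := fun x =>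
    (Submodule.Quotient.mk_eq_zero _).trans (mem_map_smul_top p₀ x)
  let q₀ : Ideal B₀ := q.map (Ideal.Quotient.mk J)
  have hq₀c : q₀.comap (Ideal.Quotient.mk J) = q := by
    rw [Ideal.comap_map_of_surjective' _ Ideal.Quotient.mk_surjective, Ideal.mk_ker, sup_eq_left.2 hJq]
  have hq₀ : ∀ b, Ideal.Quotient.mk J b ∈ q₀ ↔ b ∈ q := fun b => by
    rw [← Ideal.mem_comap, hq₀c]
  haveI : q₀.IsPrime := Ideal.map_isPrime_of_surjective Ideal.Quotient.mk_surjective (by rwa [Ideal.mk_ker])
  have hq₀0 : q₀.comap (algebraMap A₀ B₀) = ⊥ := by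
    refine le_antisymm (fun x hx => ?_) bot_le
    obtain ⟨e, rfl⟩ := Ideal.Quotient.mk_surjective x
    exact Ideal.mem_bot.2 (Ideal.Quotient.eq_zero_iff_mem.2 ((hq₀ _).1 hx))
  obtain ⟨g₀, hg₀, a₀, ha₀, hrad, hpure, hfib⟩ := core_domain A₀ B₀ M₀ q₀ hq₀0 (mkM m) (fun b hb => by
    obtain ⟨b, rfl⟩ := Ideal.Quotient.mk_surjective b
    obtain ⟨t, ht, n, hn⟩ := hann b ((hq₀ b).1 hb)
    refine ⟨Ideal.Quotient.mk J t, fun h => ht ((hq₀ t).1 h), n, ?_⟩
    rw [← map_pow, ← map_mul, hsmul, hzero]
    exact hn)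
  obtain ⟨g, rfl⟩ := Ideal.Quotient.mk_surjective g₀
  obtain ⟨a, rfl⟩ := Ideal.Quotient.mk_surjective a₀
  have hI : ∀ b, b • m ∈ p₀ • (⊤ : Submodule A M) → b ∈ q := fun b hb => by
    by_contra h
    exact hm b h hb
  refine ⟨g, fun h => hg₀ ((hq₀ g).2 h), a, fun h => ha₀ (Ideal.Quotient.eq_zero_iff_mem.2 h), ?_, ?_⟩
  · intro r hr hqr hgr har hmin
    have hJr : J ≤ r := hJq.trans hqr
    have hp₀p : p₀ ≤ r.comap (algebraMap A B) := Ideal.comap_mono hqr
    refine ⟨fun s hs hsm => ?_, fun r' hr' hr'r hr'I => ?_⟩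
    · obtain ⟨k, u, hu, hk⟩ := hpure ((r.comap (algebraMap A B)).map (Ideal.Quotient.mk p₀)) (Ideal.Quotient.mk J s) (by
        rw [hsmul]
        revert hsm
        generalize s • m = x
        intro hx
        refine Submodule.smul_induction_on hx (fun e he y _ => ?_) fun x y hx hy => by rw [map_add]; exact add_mem hx hy
        rw [LinearMap.map_smul_of_tower]
        have h1 : (Ideal.Quotient.mk p₀ e : A₀) • mkM y = e • mkM y := by
          rw [← algebraMap_smul B e (mkM y)]
          rfl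
        rw [← h1]
        exact Submodule.smul_mem_smul (Ideal.mem_map_of_mem _ he) trivial)
      obtain ⟨u, rfl⟩ := Ideal.Quotient.mk_surjective u
      have hur : u ∈ r := by
        rw [Ideal.map_map, show (algebraMap A₀ B₀).comp (Ideal.Quotient.mk p₀) =
          (Ideal.Quotient.mk J).comp (algebraMap A B) from rfl, ← Ideal.map_map] at hu
        have h2 := Ideal.mem_comap.2 hu
        rw [Ideal.comap_map_of_surjective' _ Ideal.Quotient.mk_surjective, Ideal.mk_ker] at h2
        exact sup_le Ideal.map_comap_le hJr h2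
      rw [show algebraMap A₀ B₀ (Ideal.Quotient.mk p₀ a) = Ideal.Quotient.mk J (algebraMap A B a) from rfl,
        ← map_pow, ← map_mul, ← map_sub, hsmul, hzero] at hk
      have h3 := add_mem (hqr (hI _ hk)) hur
      rw [sub_add_cancel] at h3
      exact (hr.mem_or_mem h3).elim (fun h => har (hr.mem_of_pow_mem k h)) hs
    · have hpr' : r.comap (algebraMap A B) ≤ r'.comap (algebraMap A B) := fun e he =>
        hr'I _ (by rw [algebraMap_smul]; exact Submodule.smul_mem_smul he trivial)
      have hJr' : J ≤ r' := Ideal.map_le_iff_le_comap.2 (hp₀p.trans hpr')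
      haveI : (r'.map (Ideal.Quotient.mk J)).IsPrime :=
        Ideal.map_isPrime_of_surjective Ideal.Quotient.mk_surjective (by rwa [Ideal.mk_ker])
      have hc : ∀ b, Ideal.Quotient.mk J b ∈ r'.map (Ideal.Quotient.mk J) ↔ b ∈ r' := fun b => by
        rw [← Ideal.mem_comap, Ideal.comap_map_of_surjective' _ Ideal.Quotient.mk_surjective, Ideal.mk_ker,
          sup_eq_left.2 hJr']
      have hqr' : q ≤ r' := fun b hb => (hc b).1 (hrad _ inferInstance (fun x hx => by
        obtain ⟨x, rfl⟩ := Ideal.Quotient.mk_surjective x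
        rw [hsmul, hzero] at hx
        exact (hc x).2 (hr'I x (Submodule.smul_mono hp₀p le_rfl hx)))
        (fun h => hgr (hr'r ((hc g).1 h))) (fun h => har (hr'r ((hc (algebraMap A B a)).1 h))) ((hq₀ b).2 hb))
      exact hmin r' hr' hqr' hr'r (le_antisymm (Ideal.comap_mono hr'r) hpr')
  · intro p hp hpp ha
    have hker : RingHom.ker (Ideal.Quotient.mk p₀) ≤ p := by rwa [Ideal.mk_ker]
    haveI : (p.map (Ideal.Quotient.mk p₀)).IsPrime :=
      Ideal.map_isPrime_of_surjective Ideal.Quotient.mk_surjective hker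
    have hpc : (p.map (Ideal.Quotient.mk p₀)).comap (Ideal.Quotient.mk p₀) = p := by
      rw [Ideal.comap_map_of_surjective' _ Ideal.Quotient.mk_surjective, Ideal.mk_ker, sup_eq_left.2 hpp]
    obtain ⟨r₀, hr₀, hr₀p, hqr₀, hgr₀⟩ := hfib _ inferInstance
      (fun h => ha (hpc ▸ Ideal.mem_comap.2 h))
    let r₁ := r₀.comap (Ideal.Quotient.mk J)
    have hr₁p : r₁.comap (algebraMap A B) = p := by
      rw [← hpc, ← hr₀p, Ideal.comap_comap, Ideal.comap_comap]
      rfl
    have hle : q ⊔ p.map (algebraMap A B) ≤ r₁ := sup_le (fun b hb => hqr₀ ((hq₀ b).2 hb))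
      (Ideal.map_le_iff_le_comap.2 hr₁p.ge)
    obtain ⟨r, hr, hrr₁⟩ := Ideal.exists_minimalPrimes_le hle
    have hrp : r.comap (algebraMap A B) = p := le_antisymm (hr₁p ▸ Ideal.comap_mono hrr₁)
      (Ideal.map_le_iff_le_comap.1 (le_sup_right.trans hr.1.2))
    refine ⟨r, hr.1.1, hrp, le_sup_left.trans hr.1.2, fun h => hgr₀ (hrr₁ h), fun r' hr' hqr' hr'r he => ?_⟩
    exact le_antisymm hr'r (hr.2 ⟨hr', sup_le hqr' (Ideal.map_le_iff_le_comap.2 (he.trans hrp).ge)⟩ hr'r)

end Groth.Agent.RelAssGen
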