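import Mathlib
import Groth.Agent.GenFreeRed.Main
import Groth.Agent.RelAssGen.Alg

/-!
# Injectivity of a map of modules on fibres
-/

set_option autoImplicit false
set_option linter.style.haveILetI false

universe u

open scoped TensorProduct

namespace Groth.Agent.RelAssGen

/-- The elements of `M` vanishing in the fibre over `p`. -/
def Sat {A M : Type u} [CommRing A] [AddCommGroup M] [Module A M] (p : Ideal A) (x : M) : Prop :=
  ∃ c, c ∉ p ∧ c • x ∈ p • (⊤ : Submodule A M)

/-- A linear map is injective in the fibre over `p`. -/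
def InjP {A M N : Type u} [CommRing A] [AddCommGroup M] [Module A M] [AddCommGroup N] [Module A N]
    (φ : M →ₗ[A] N) (p : Ideal A) : Prop :=
  ∀ m, Sat p (φ m) → Sat p m

theorem mem_map_smul_top' {A B M : Type u} [CommRing A] [CommRing B] [Algebra A B] [AddCommGroup M] [Module A M]
    [Module B M] [IsScalarTower A B M] (p : Ideal A) (x : M) :
    x ∈ p.map (algebraMap A B) • (⊤ : Submodule B M) ↔ x ∈ p • (⊤ : Submodule A M) :=
  mem_map_smul_top p x

/-- Vanishing in a fibre is unchanged modulo a smaller prime. -/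
theorem sat_quot_iff {A A₀ M M₀ : Type u} [CommRing A] [CommRing A₀] [AddCommGroup M] [Module A M]
    [AddCommGroup M₀] [Module A₀ M₀] (π : A →+* A₀) (hπ : Function.Surjective π) (q : M →+ M₀)
    (hs : Function.Surjective q) (p : Ideal A) (hc : ∀ e, π e ∈ p.map π ↔ e ∈ p)
    (hsmul : ∀ e x, π e • q x = q (e • x))
    (hzero : ∀ x, q x = 0 → x ∈ p • (⊤ : Submodule A M)) (x : M) :
    Sat p x ↔ Sat (p.map π) (q x) := by
  have hiff : ∀ y : M, y ∈ p • (⊤ : Submodule A M) ↔ q y ∈ p.map π • (⊤ : Submodule A₀ M₀) := by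
    intro y
    refine ⟨fun hy => ?_, fun hy => ?_⟩
    · refine Submodule.smul_induction_on (p := fun y => q y ∈ p.map π • (⊤ : Submodule A₀ M₀)) hy (fun e he w _ => ?_)
        fun w w' h h' => ?_
      · rw [← hsmul]
        exact Submodule.smul_mem_smul (Ideal.mem_map_of_mem _ he) trivial
      · rw [map_add]; exact add_mem h h'
    · obtain ⟨w, hw, hwy⟩ : ∃ w ∈ p • (⊤ : Submodule A M), q w = q y := by
        refine Submodule.smul_induction_on (p := fun z => ∃ w ∈ p • (⊤ : Submodule A M), q w = z) hy (fun e he z _ => ?_) ?_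
        · obtain ⟨e, rfl⟩ := hπ e
          obtain ⟨z, rfl⟩ := hs z
          exact ⟨e • z, Submodule.smul_mem_smul ((hc e).1 he) trivial, (hsmul e z).symm⟩
        · rintro _ _ ⟨w, hw, rfl⟩ ⟨w', hw', rfl⟩
          exact ⟨w + w', add_mem hw hw', map_add q w w'⟩
      have h := hzero (y - w) (by rw [map_sub, hwy, sub_self])
      rw [← sub_add_cancel y w]
      exact add_mem h hw
  constructor
  · rintro ⟨c, hc', hx⟩
    exact ⟨π c, fun h => hc' ((hc c).1 h), by rw [hsmul]; exact (hiff _).1 hx⟩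
  · rintro ⟨c, hc', hx⟩
    obtain ⟨c, rfl⟩ := hπ c
    rw [hsmul] at hx
    exact ⟨c, fun h => hc' ((hc c).2 h), (hiff _).2 hx⟩

theorem mem_smul_top_of_mk {A M : Type u} [CommRing A] [AddCommGroup M] [Module A M] (a : A) (p : Ideal A) {x : M}
    (h : LocalizedModule.mk x (1 : Submonoid.powers a) ∈ p • (⊤ : Submodule A (LocalizedModule (Submonoid.powers a) M))) :
    ∃ k : ℕ, a ^ k • x ∈ p • (⊤ : Submodule A M) := by
  have key : ∀ z ∈ p • (⊤ : Submodule A (LocalizedModule (Submonoid.powers a) M)),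
      ∃ k : ℕ, ∃ y ∈ p • (⊤ : Submodule A M), a ^ k • z = LocalizedModule.mkLinearMap (Submonoid.powers a) M y := by
    intro z hz
    refine Submodule.smul_induction_on hz (fun e he w _ => ?_) ?_
    · obtain ⟨⟨y, ⟨_, k, rfl⟩⟩, hy⟩ := IsLocalizedModule.surj (Submonoid.powers a)
        (LocalizedModule.mkLinearMap (Submonoid.powers a) M) w
      refine ⟨k, e • y, Submodule.smul_mem_smul he trivial, ?_⟩
      rw [map_smul, ← hy, Submonoid.smul_def, smul_comm]
    · rintro z z' ⟨k, y, hy, hz⟩ ⟨l, y', hy', hz'⟩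
      refine ⟨k + l, a ^ l • y + a ^ k • y', add_mem (Submodule.smul_mem _ _ hy) (Submodule.smul_mem _ _ hy'), ?_⟩
      rw [map_add, map_smul, map_smul, ← hz, ← hz', smul_add, smul_smul, smul_smul, ← pow_add, ← pow_add, add_comm l k]
  obtain ⟨k, y, hy, hky⟩ := key _ h
  rw [← LocalizedModule.mkLinearMap_apply, ← map_smul] at hky
  obtain ⟨⟨_, j, rfl⟩, hj⟩ := (IsLocalizedModule.eq_iff_exists (Submonoid.powers a)
    (LocalizedModule.mkLinearMap (Submonoid.powers a) M)).1 hky
  simp only [Submonoid.smul_def, smul_smul, ← pow_add] at hj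
  exact ⟨j + k, hj ▸ Submodule.smul_mem _ _ hy⟩

/-- Over a domain, injectivity in the fibres is generically constant, if source and cokernel are generically
free. -/
theorem injP_dichotomy_of_free {A M N : Type u} [CommRing A] [IsDomain A] [AddCommGroup M] [Module A M]
    [AddCommGroup N] [Module A N] (φ : M →ₗ[A] N) (a c : A) (ha : a * c ≠ 0)
    [Module.Free (Localization (Submonoid.powers a)) (LocalizedModule (Submonoid.powers a) M)]
    [Module.Free (Localization (Submonoid.powers (a * c)))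
      (LocalizedModule (Submonoid.powers (a * c)) (N ⧸ LinearMap.range φ))] :
    ∃ b : A, b ≠ 0 ∧ ((∀ p : Ideal A, p.IsPrime → b ∉ p → InjP φ p) ∨
      ∀ p : Ideal A, p.IsPrime → b ∉ p → ¬ InjP φ p) := by
  classical
  by_cases hK : ∀ m, φ m = 0 → ∃ k : ℕ, a ^ k • m = 0
  · let d := a * c
    let S := Submonoid.powers d
    let Aa := Localization S
    let M' := LocalizedModule S M
    let N' := LocalizedModule S N
    let φ' : M' →ₗ[Aa] N' := LocalizedModule.map S φ
    have hφ' : ∀ x : M, φ' (LocalizedModule.mk x 1) = LocalizedModule.mk (φ x) 1 := fun x => LocalizedModule.map_mk _ _ _ _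
    have hinj : Function.Injective φ' := (injective_iff_map_eq_zero _).2 fun z hz => by
      induction z using LocalizedModule.induction_on with
      | h y s =>
        rw [LocalizedModule.map_mk] at hz
        obtain ⟨⟨_, j, rfl⟩, hj⟩ := LocalizedModule.mk_eq.1 (hz.trans (LocalizedModule.zero_mk 1).symm)
        simp only [smul_zero, one_smul, Submonoid.smul_def, ← map_smul] at hj
        obtain ⟨k, hk⟩ := hK _ hj
        rw [← LocalizedModule.zero_mk 1, LocalizedModule.mk_eq]
        refine ⟨⟨d ^ (k + j), k + j, rfl⟩, ?_⟩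
        simp only [smul_zero, one_smul, Submonoid.smul_def]
        rw [show d ^ (k + j) = c ^ k * (a ^ k * d ^ j) by simp only [d, pow_add, mul_pow]; ring, mul_smul, mul_smul,
          hk, smul_zero]
    refine ⟨d, ha, Or.inl fun p hp hap m hm => ?_⟩
    let C := N ⧸ LinearMap.range φ
    let π₀ : N →ₗ[A] C := Submodule.mkQ _
    let π : N' →ₗ[Aa] LocalizedModule S C := LocalizedModule.map S π₀
    have hπ₀ : Function.Surjective π₀ := Submodule.mkQ_surjective _
    have hπs : Function.Surjective π := LocalizedModule.map_surjective S π₀ hπ₀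
    obtain ⟨σ, hσ⟩ := Module.projective_lifting_property π LinearMap.id hπs
    have hex : ∀ z : N', π z = 0 → z ∈ LinearMap.range φ' := by
      intro z hz
      induction z using LocalizedModule.induction_on with
      | h y s =>
        rw [LocalizedModule.map_mk] at hz
        obtain ⟨⟨_, j, rfl⟩, hj⟩ := LocalizedModule.mk_eq.1 (hz.trans (LocalizedModule.zero_mk 1).symm)
        simp only [smul_zero, one_smul, Submonoid.smul_def] at hj
        obtain ⟨x, hx⟩ : d ^ j • y ∈ LinearMap.range φ := by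
          refine (Submodule.Quotient.mk_eq_zero _).1 ?_
          rw [Submodule.Quotient.mk_smul]
          exact hj
        refine ⟨LocalizedModule.mk x (⟨d ^ j, j, rfl⟩ * s), ?_⟩
        rw [LocalizedModule.map_mk, hx, LocalizedModule.mk_eq]
        exact ⟨1, by simp [Submonoid.smul_def, smul_smul, mul_comm]⟩
    let ρ : N' →ₗ[Aa] N' := LinearMap.id - σ ∘ₗ π
    have hρ : ∀ z, ρ z ∈ LinearMap.range φ' := fun z => hex _ (by
      simp only [ρ, LinearMap.sub_apply, LinearMap.id_coe, id_eq, LinearMap.comp_apply, map_sub]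
      rw [show π (σ (π z)) = π z from LinearMap.congr_fun hσ _, sub_self])
    let r : N' →ₗ[Aa] M' := (LinearEquiv.ofInjective φ' hinj).symm.toLinearMap ∘ₗ ρ.codRestrict _ hρ
    have hr : ∀ z, φ' (r z) = ρ z := fun z =>
      congrArg Subtype.val ((LinearEquiv.ofInjective φ' hinj).apply_symm_apply ⟨ρ z, hρ z⟩)
    have hrφ : ∀ x : M, r (LocalizedModule.mk (φ x) 1) = LocalizedModule.mk x 1 := fun x => hinj (by
      rw [hr, hφ']
      simp only [ρ, LinearMap.sub_apply, LinearMap.id_coe, id_eq, LinearMap.comp_apply]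
      rw [show π (LocalizedModule.mk (φ x) 1) = 0 from ?_, map_zero, sub_zero]
      rw [LocalizedModule.map_mk, show π₀ (φ x) = 0 from (Submodule.Quotient.mk_eq_zero _).2 ⟨x, rfl⟩,
        LocalizedModule.zero_mk])
    obtain ⟨e₀, hc, hcm⟩ := hm
    rw [← map_smul] at hcm
    have h1 : r (LocalizedModule.mkLinearMap S N (φ (e₀ • m))) ∈ p • (⊤ : Submodule A M') := by
      have hmap := Submodule.mem_map_of_mem (f := (r.restrictScalars A).comp (LocalizedModule.mkLinearMap S N)) hcm
      rw [Submodule.map_smul''] at hmap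
      exact Submodule.smul_mono le_rfl le_top hmap
    rw [LocalizedModule.mkLinearMap_apply, hrφ] at h1
    obtain ⟨k, hk⟩ := mem_smul_top_of_mk d p h1
    exact ⟨d ^ k * e₀, fun h => (hp.mem_or_mem h).elim (fun h => hap (hp.mem_of_pow_mem k h)) hc,
      by rwa [mul_smul]⟩
  · let S := Submonoid.powers a
    let Aa := Localization S
    let M' := LocalizedModule S M
    push Not at hK
    obtain ⟨m, hm, hm'⟩ := hK
    have hm0 : (LocalizedModule.mk m 1 : M') ≠ 0 := fun h => by
      obtain ⟨⟨_, i, rfl⟩, hi⟩ := LocalizedModule.mk_eq.1 (h.trans (LocalizedModule.zero_mk 1).symm)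
      simp only [smul_zero, one_smul, Submonoid.smul_def] at hi
      exact hm' i hi
    let β := Module.Free.chooseBasis Aa M'
    obtain ⟨i, hi⟩ : ∃ i, β.repr (LocalizedModule.mk m 1) i ≠ 0 := by
      by_contra h
      push Not at h
      exact hm0 (β.ext_elem fun i => by simpa using h i)
    obtain ⟨⟨e, ⟨_, l, rfl⟩⟩, he⟩ := IsLocalization.surj S (β.repr (LocalizedModule.mk m 1) i)
    have he0 : e ≠ 0 := fun h => by
      subst h
      rw [map_zero] at he
      exact hi ((IsUnit.mul_left_eq_zero (IsLocalization.map_units Aa (⟨a ^ l, l, rfl⟩ : S))).1 he)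
    refine ⟨a * e, mul_ne_zero (left_ne_zero_of_mul ha) he0, Or.inr fun p hp hbp hP => ?_⟩
    obtain ⟨c₀, hc, hcm⟩ := hP m ⟨1, hp.one_notMem, by rw [one_smul, hm]; exact zero_mem _⟩
    have h1 : β.repr (LocalizedModule.mk (c₀ • m) (1 : S)) i ∈ p.map (algebraMap A Aa) := by
      let L : M →ₗ[A] Aa := ((Finsupp.lapply i).comp β.repr.toLinearMap).restrictScalars A ∘ₗ LocalizedModule.mkLinearMap S M
      have hmap := Submodule.mem_map_of_mem (f := L) hcm
      rw [Submodule.map_smul''] at hmap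
      have h3 := Submodule.smul_mono le_rfl le_top hmap
      rw [Ideal.smul_top_eq_map] at h3
      exact h3
    have h2 := Ideal.mul_mem_right (algebraMap A Aa (a ^ l)) _ h1
    rw [show (LocalizedModule.mk (c₀ • m) 1 : M') = algebraMap A Aa c₀ • LocalizedModule.mk m 1 by
      rw [algebraMap_smul, LocalizedModule.smul'_mk], map_smul, Finsupp.smul_apply, smul_eq_mul, mul_assoc, he,
      ← map_mul] at h2
    have hdis : Disjoint (S : Set A) p :=
      (Ideal.disjoint_powers_iff_notMem a hp.isRadical).2 fun h => hbp (p.mul_mem_right _ h)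
    have h4 : c₀ * e ∈ p := (IsLocalization.under_map_of_isPrime_disjoint S Aa hp hdis) ▸ h2
    exact (hp.mem_or_mem h4).elim hc fun h => hbp (p.mul_mem_left _ h)

/-- Injectivity in the fibres of a map of finite modules over a finite type algebra is generically constant. -/
theorem injP_dichotomy {A B M N : Type u} [CommRing A] [CommRing B] [Algebra A B] [Algebra.FiniteType A B]
    [AddCommGroup M] [Module A M] [Module B M] [IsScalarTower A B M] [Module.Finite B M]
    [AddCommGroup N] [Module A N] [Module B N] [IsScalarTower A B N] [Module.Finite B N]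
    (φ : M →ₗ[B] N) (p₀ : Ideal A) [p₀.IsPrime] :
    ∃ b : A, b ∉ p₀ ∧ ((∀ p : Ideal A, p.IsPrime → p₀ ≤ p → b ∉ p → InjP (φ.restrictScalars A) p) ∨
      ∀ p : Ideal A, p.IsPrime → p₀ ≤ p → b ∉ p → ¬ InjP (φ.restrictScalars A) p) := by
  let A₀ := A ⧸ p₀
  let J := p₀.map (algebraMap A B)
  let B₀ := B ⧸ J
  let M₀ := M ⧸ J • (⊤ : Submodule B M)
  let N₀ := N ⧸ J • (⊤ : Submodule B N)
  letI : Algebra A₀ B₀ := (Ideal.quotientMap J (algebraMap A B) Ideal.le_comap_map).toAlgebra
  haveI : IsScalarTower A A₀ B₀ := IsScalarTower.of_algebraMap_eq fun _ => rfl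
  haveI : Algebra.FiniteType A₀ B₀ := Algebra.FiniteType.of_restrictScalars_finiteType A A₀ B₀
  letI : Module A₀ M₀ := Module.compHom M₀ (algebraMap A₀ B₀)
  haveI : IsScalarTower A₀ B₀ M₀ := IsScalarTower.of_algebraMap_smul fun _ _ => rfl
  letI : Module A₀ N₀ := Module.compHom N₀ (algebraMap A₀ B₀)
  haveI : IsScalarTower A₀ B₀ N₀ := IsScalarTower.of_algebraMap_smul fun _ _ => rfl
  haveI : Module.Finite B₀ M₀ := Module.Finite.of_restrictScalars_finite B B₀ M₀
  haveI : Module.Finite B₀ N₀ := Module.Finite.of_restrictScalars_finite B B₀ N₀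
  let φ₁ : M₀ →ₗ[B] N₀ := Submodule.mapQ (J • (⊤ : Submodule B M)) (J • (⊤ : Submodule B N)) φ fun x hx => by
    refine Submodule.smul_induction_on (p := fun z => φ z ∈ J • (⊤ : Submodule B N)) hx (fun e he y _ => ?_)
      fun x y hx hy => by rw [map_add]; exact add_mem hx hy
    rw [map_smul]
    exact Submodule.smul_mem_smul he trivial
  let φ₀ : M₀ →ₗ[B₀] N₀ :=
    { toFun := φ₁
      map_add' := map_add φ₁
      map_smul' := fun c x => by
        obtain ⟨c, rfl⟩ := Ideal.Quotient.mk_surjective c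
        exact map_smul φ₁ c x }
  let ψ := φ₀.restrictScalars A₀
  obtain ⟨c₁, hc₁, hM⟩ := GenFreeRed.exists_isGood A₀ B₀ M₀ (1 : A₀) one_ne_zero
  obtain ⟨c₂, hc₂, hC⟩ := GenFreeRed.exists_isGood A₀ B₀ (N₀ ⧸ LinearMap.range φ₀) (1 * c₁) hc₁
  haveI := hM.1
  haveI : Module.Free (Localization (Submonoid.powers (1 * c₁ * c₂)))
      (LocalizedModule (Submonoid.powers (1 * c₁ * c₂)) (N₀ ⧸ LinearMap.range ψ)) := hC.1
  obtain ⟨b₀, hb₀, hdich⟩ := injP_dichotomy_of_free ψ (1 * c₁) c₂ hc₂
  obtain ⟨b, rfl⟩ := Ideal.Quotient.mk_surjective b₀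
  refine ⟨b, fun h => hb₀ (Ideal.Quotient.eq_zero_iff_mem.2 h), ?_⟩
  have hsmulM : ∀ (e : A) (x : M), (Ideal.Quotient.mk p₀ e : A₀) • (Submodule.Quotient.mk x : M₀) = Submodule.Quotient.mk (e • x) :=
    fun e x => by rw [← algebraMap_smul B e x]; rfl
  have hsmulN : ∀ (e : A) (x : N), (Ideal.Quotient.mk p₀ e : A₀) • (Submodule.Quotient.mk x : N₀) = Submodule.Quotient.mk (e • x) :=
    fun e x => by rw [← algebraMap_smul B e x]; rfl
  have key : ∀ (p : Ideal A), p.IsPrime → p₀ ≤ p →
      (InjP (φ.restrictScalars A) p ↔ InjP ψ (p.map (Ideal.Quotient.mk p₀))) := by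
    intro p hp hpp
    have hc : ∀ e, Ideal.Quotient.mk p₀ e ∈ p.map (Ideal.Quotient.mk p₀) ↔ e ∈ p := fun e => by
      rw [← Ideal.mem_comap, Ideal.comap_map_of_surjective' _ Ideal.Quotient.mk_surjective, Ideal.mk_ker,
        sup_eq_left.2 hpp]
    have hM' : ∀ x : M, Sat p x ↔ Sat (p.map (Ideal.Quotient.mk p₀)) (Submodule.Quotient.mk x : M₀) :=
      sat_quot_iff (Ideal.Quotient.mk p₀) Ideal.Quotient.mk_surjective (Submodule.mkQ (J • (⊤ : Submodule B M))).toAddMonoidHom
        (Submodule.mkQ_surjective _) p hc hsmulM fun x hx => Submodule.smul_mono hpp le_rfl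
          ((mem_map_smul_top' p₀ x).1 ((Submodule.Quotient.mk_eq_zero _).1 hx))
    have hN' : ∀ x : N, Sat p x ↔ Sat (p.map (Ideal.Quotient.mk p₀)) (Submodule.Quotient.mk x : N₀) :=
      sat_quot_iff (Ideal.Quotient.mk p₀) Ideal.Quotient.mk_surjective (Submodule.mkQ (J • (⊤ : Submodule B N))).toAddMonoidHom
        (Submodule.mkQ_surjective _) p hc hsmulN fun x hx => Submodule.smul_mono hpp le_rfl
          ((mem_map_smul_top' p₀ x).1 ((Submodule.Quotient.mk_eq_zero _).1 hx))
    constructor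
    · intro h x hx
      obtain ⟨x, rfl⟩ := Submodule.Quotient.mk_surjective _ x
      exact (hM' x).1 (h x ((hN' (φ x)).2 hx))
    · exact fun h x hx => (hM' x).2 (h _ ((hN' (φ x)).1 hx))
  have hpm : ∀ p : Ideal A, p.IsPrime → p₀ ≤ p → b ∉ p →
      (p.map (Ideal.Quotient.mk p₀)).IsPrime ∧ Ideal.Quotient.mk p₀ b ∉ p.map (Ideal.Quotient.mk p₀) := fun p hp hpp hb => by
    refine ⟨Ideal.map_isPrime_of_surjective Ideal.Quotient.mk_surjective (by rwa [Ideal.mk_ker]), ?_⟩
    rwa [← Ideal.mem_comap, Ideal.comap_map_of_surjective' _ Ideal.Quotient.mk_surjective, Ideal.mk_ker,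
      sup_eq_left.2 hpp]
  rcases hdich with h | h
  · exact Or.inl fun p hp hpp hb => (key p hp hpp).2 (h _ (hpm p hp hpp hb).1 (hpm p hp hpp hb).2)
  · exact Or.inr fun p hp hpp hb h' => h _ (hpm p hp hpp hb).1 (hpm p hp hpp hb).2 ((key p hp hpp).1 h')

end Groth.Agent.RelAssGen
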