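import Mathlib
import Groth.Agent.RelAssGen.Inj

/-!
# Injectivity in the fibres under base change
-/

set_option autoImplicit false
set_option linter.style.haveILetI false

universe u

open scoped TensorProduct

namespace Groth.Agent.RelAssGen

variable {A M N : Type u} [CommRing A] [AddCommGroup M] [Module A M] [AddCommGroup N] [Module A N]

theorem sat_iff_one_tmul_eq_zero (p : Ideal A) [p.IsPrime] (x : M) :
    Sat p x ↔ (1 : p.ResidueField) ⊗ₜ[A] x = 0 := by
  constructor
  · rintro ⟨c, hc, hx⟩
    have h0 : ∀ y ∈ p • (⊤ : Submodule A M), (1 : p.ResidueField) ⊗ₜ[A] y = 0 := fun y hy =>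
      Submodule.smul_induction_on (p := fun y => (1 : p.ResidueField) ⊗ₜ[A] y = 0) hy
        (fun e he z _ => by
          rw [← TensorProduct.smul_tmul, Algebra.smul_def, mul_one, Ideal.algebraMap_residueField_eq_zero.2 he,
            TensorProduct.zero_tmul])
        fun y z hy hz => by rw [TensorProduct.tmul_add, hy, hz, add_zero]
    have h1 := h0 _ hx
    rw [← TensorProduct.smul_tmul, Algebra.smul_def, mul_one,
      ← mul_one (algebraMap A p.ResidueField c), ← smul_eq_mul, ← TensorProduct.smul_tmul'] at h1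
    exact (smul_eq_zero.1 h1).resolve_left fun h => hc (Ideal.algebraMap_residueField_eq_zero.1 h)
  · intro hx
    let M₁ := (A ⧸ p) ⊗[A] M
    let f : M₁ →ₗ[A ⧸ p] p.ResidueField ⊗[A ⧸ p] M₁ := TensorProduct.mk (A ⧸ p) p.ResidueField M₁ 1
    haveI : IsLocalizedModule (nonZeroDivisors (A ⧸ p)) f :=
      (isLocalizedModule_iff_isBaseChange (nonZeroDivisors (A ⧸ p)) p.ResidueField f).2
        (TensorProduct.isBaseChange _ _ _)
    have h1 : f ((1 : A ⧸ p) ⊗ₜ[A] x) = 0 := by
      apply (TensorProduct.AlgebraTensorModule.cancelBaseChange A (A ⧸ p) p.ResidueField p.ResidueField M).injective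
      rw [map_zero]
      show (TensorProduct.AlgebraTensorModule.cancelBaseChange A (A ⧸ p) p.ResidueField p.ResidueField M)
        ((1 : p.ResidueField) ⊗ₜ ((1 : A ⧸ p) ⊗ₜ[A] x)) = 0
      rw [TensorProduct.AlgebraTensorModule.cancelBaseChange_tmul, one_smul]
      exact hx
    obtain ⟨⟨c, hc⟩, hcx⟩ := (IsLocalizedModule.eq_zero_iff (nonZeroDivisors (A ⧸ p)) f).1 h1
    obtain ⟨c, rfl⟩ := Ideal.Quotient.mk_surjective c
    refine ⟨c, fun h => nonZeroDivisors.ne_zero hc (Ideal.Quotient.eq_zero_iff_mem.2 h), ?_⟩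
    have h2 := congrArg (TensorProduct.quotTensorEquivQuotSMul M p) hcx
    rw [map_zero, Submonoid.smul_def, TensorProduct.smul_tmul', smul_eq_mul, mul_one,
      TensorProduct.quotTensorEquivQuotSMul_mk_tmul] at h2
    exact (Submodule.Quotient.mk_eq_zero _).1 h2

theorem exists_smul_eq_one_tmul (p : Ideal A) [p.IsPrime] (z : p.ResidueField ⊗[A] M) :
    ∃ c, c ∉ p ∧ ∃ x : M, algebraMap A p.ResidueField c • z = (1 : p.ResidueField) ⊗ₜ[A] x := by
  induction z using TensorProduct.induction_on with
  | zero => exact ⟨1, ‹p.IsPrime›.one_notMem, 0, by rw [smul_zero, TensorProduct.tmul_zero]⟩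
  | tmul k y =>
    obtain ⟨⟨n, ⟨d, hd⟩⟩, hnd⟩ := IsLocalization.surj (nonZeroDivisors (A ⧸ p)) k
    obtain ⟨n, rfl⟩ := Ideal.Quotient.mk_surjective n
    obtain ⟨d, rfl⟩ := Ideal.Quotient.mk_surjective d
    refine ⟨d, fun h => nonZeroDivisors.ne_zero hd (Ideal.Quotient.eq_zero_iff_mem.2 h), n • y, ?_⟩
    rw [TensorProduct.smul_tmul', ← TensorProduct.smul_tmul, smul_eq_mul, Algebra.smul_def, mul_one, mul_comm]
    exact congrArg (· ⊗ₜ[A] y) hnd
  | add z z' hz hz' =>
    obtain ⟨c, hc, x, hx⟩ := hz
    obtain ⟨c', hc', x', hx'⟩ := hz'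
    refine ⟨c * c', fun h => (‹p.IsPrime›.mem_or_mem h).elim hc hc', c' • x + c • x', ?_⟩
    rw [TensorProduct.tmul_add, TensorProduct.tmul_smul, TensorProduct.tmul_smul, ← hx, ← hx', smul_add,
      ← algebraMap_smul p.ResidueField c', ← algebraMap_smul p.ResidueField c (algebraMap A _ c' • z'), smul_smul,
      smul_smul, map_mul, mul_comm (algebraMap A p.ResidueField c')]

theorem injP_iff_lTensor (φ : M →ₗ[A] N) (p : Ideal A) [p.IsPrime] :
    InjP φ p ↔ Function.Injective (φ.lTensor p.ResidueField) := by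
  constructor
  · intro h
    rw [injective_iff_map_eq_zero]
    intro z hz
    obtain ⟨c, hc, x, hx⟩ := exists_smul_eq_one_tmul p z
    have h1 : (1 : p.ResidueField) ⊗ₜ[A] φ x = 0 := by
      rw [← LinearMap.lTensor_tmul, ← hx, algebraMap_smul, map_smul, hz, smul_zero]
    have h2 := (sat_iff_one_tmul_eq_zero p x).1 (h x ((sat_iff_one_tmul_eq_zero p _).2 h1))
    rw [← hx] at h2
    exact (smul_eq_zero.1 h2).resolve_left fun h => hc (Ideal.algebraMap_residueField_eq_zero.1 h)
  · intro h m hm
    refine (sat_iff_one_tmul_eq_zero p m).2 (h ?_)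
    rw [map_zero, LinearMap.lTensor_tmul]
    exact (sat_iff_one_tmul_eq_zero p _).1 hm

/-- Injectivity in the fibres is insensitive to base change. -/
theorem injP_baseChange_iff {A₀ M₀ N₀ : Type u} [CommRing A₀] [Algebra A₀ A] [AddCommGroup M₀] [Module A₀ M₀]
    [AddCommGroup N₀] [Module A₀ N₀] (φ₀ : M₀ →ₗ[A₀] N₀) (P : Ideal A) [P.IsPrime] :
    InjP (φ₀.baseChange A) P ↔ InjP φ₀ (P.comap (algebraMap A₀ A)) := by
  let p := P.comap (algebraMap A₀ A)
  rw [injP_iff_lTensor, injP_iff_lTensor]
  letI : Algebra p.ResidueField P.ResidueField := (Ideal.ResidueField.map p P (algebraMap A₀ A) rfl).toAlgebra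
  haveI : IsScalarTower A₀ p.ResidueField P.ResidueField := IsScalarTower.of_algebraMap_eq fun x =>
    ((Ideal.ResidueField.map_algebraMap p P (algebraMap A₀ A) rfl x).trans
      (IsScalarTower.algebraMap_apply A₀ A P.ResidueField x).symm).symm
  let eM := TensorProduct.AlgebraTensorModule.cancelBaseChange A₀ A A P.ResidueField M₀
  let eN := TensorProduct.AlgebraTensorModule.cancelBaseChange A₀ A A P.ResidueField N₀
  let fM := TensorProduct.AlgebraTensorModule.cancelBaseChange A₀ p.ResidueField p.ResidueField P.ResidueField M₀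
  let fN := TensorProduct.AlgebraTensorModule.cancelBaseChange A₀ p.ResidueField p.ResidueField P.ResidueField N₀
  have he : ∀ z, eN ((φ₀.baseChange A).lTensor P.ResidueField z) = φ₀.lTensor P.ResidueField (eM z) := by
    intro z
    induction z using TensorProduct.induction_on with
    | zero => simp
    | add z z' h h' => simp only [map_add, h, h']
    | tmul k y =>
      induction y using TensorProduct.induction_on with
      | zero => simp
      | add y y' h h' => simp only [TensorProduct.tmul_add, map_add, h, h']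
      | tmul a m => simp [eM, eN]
  let ψ : p.ResidueField ⊗[A₀] M₀ →ₗ[p.ResidueField] p.ResidueField ⊗[A₀] N₀ := φ₀.baseChange p.ResidueField
  have hf : ∀ z, fN (ψ.lTensor P.ResidueField z) = φ₀.lTensor P.ResidueField (fM z) := by
    intro z
    induction z using TensorProduct.induction_on with
    | zero => simp
    | add z z' h h' => simp only [map_add, h, h']
    | tmul k y =>
      induction y using TensorProduct.induction_on with
      | zero => simp
      | add y y' h h' => simp only [TensorProduct.tmul_add, map_add, h, h']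
      | tmul a m => simp [fM, fN, ψ]
  have h1 : Function.Injective ((φ₀.baseChange A).lTensor P.ResidueField) ↔
      Function.Injective (φ₀.lTensor P.ResidueField) := by
    rw [← eN.injective.of_comp_iff, show eN ∘ ((φ₀.baseChange A).lTensor P.ResidueField) =
      φ₀.lTensor P.ResidueField ∘ eM from funext he]
    exact eM.toEquiv.injective_comp (φ₀.lTensor P.ResidueField)
  have h2 : Function.Injective (ψ.lTensor P.ResidueField) ↔ Function.Injective (φ₀.lTensor P.ResidueField) := by
    rw [← fN.injective.of_comp_iff, show fN ∘ (ψ.lTensor P.ResidueField) =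
      φ₀.lTensor P.ResidueField ∘ fM from funext hf]
    exact fM.toEquiv.injective_comp (φ₀.lTensor P.ResidueField)
  rw [h1, ← h2, Module.FaithfullyFlat.lTensor_injective_iff_injective]
  rfl

end Groth.Agent.RelAssGen
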