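import Mathlib
import Groth.Agent.RelAssGen.InjBC
import Groth.Agent.SmoothStrat.Model

/-!
# The locus of injectivity in the fibres is constructible
-/

set_option autoImplicit false
set_option linter.style.haveILetI false

universe u

open scoped TensorProduct
open PrimeSpectrum Topology

namespace Groth.Agent.RelAssGen

/-- Multiplication by a finite family of elements. -/
def mulMap {B : Type u} [CommRing B] {r : ℕ} (g : Fin r → B) (M : Type u) [AddCommGroup M] [Module B M] :
    M →ₗ[B] (Fin r → M) :=
  LinearMap.pi fun i => LinearMap.lsmul B M (g i)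

theorem sat_map {A M N : Type u} [CommRing A] [AddCommGroup M] [Module A M] [AddCommGroup N] [Module A N]
    (φ : M →ₗ[A] N) {p : Ideal A} {x : M} (h : Sat p x) : Sat p (φ x) := by
  obtain ⟨c, hc, hx⟩ := h
  refine ⟨c, hc, ?_⟩
  rw [← map_smul]
  have := Submodule.mem_map_of_mem (f := φ) hx
  rw [Submodule.map_smul''] at this
  exact Submodule.smul_mono le_rfl le_top this

theorem sat_pi_iff {A M : Type u} [CommRing A] [AddCommGroup M] [Module A M] {r : ℕ} {p : Ideal A} [p.IsPrime]
    (x : Fin r → M) : Sat p x ↔ ∀ i, Sat p (x i) := by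
  refine ⟨fun h i => sat_map (LinearMap.proj i : (Fin r → M) →ₗ[A] M) h, fun h => ?_⟩
  choose c hc hcx using h
  classical
  refine ⟨∏ i, c i, fun hp => ?_, ?_⟩
  · obtain ⟨i, -, hi⟩ := (Ideal.IsPrime.prod_mem_iff (p := p)).1 hp
    exact hc i hi
  · have e : (∏ i, c i) • x = ∑ i, LinearMap.single A (fun _ => M) i ((∏ j, c j) • x i) := by
      conv_lhs => rw [← Finset.univ_sum_single x, Finset.smul_sum]
      exact Finset.sum_congr rfl fun i _ => ((LinearMap.single A (fun _ => M) i).map_smul _ (x i)).symm
    rw [e]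
    refine Submodule.sum_mem _ fun i _ => ?_
    have h1 : (∏ j, c j) • x i ∈ p • (⊤ : Submodule A M) := by
      obtain ⟨d, hd⟩ := Finset.dvd_prod_of_mem c (Finset.mem_univ i)
      rw [hd, mul_comm, mul_smul]
      exact Submodule.smul_mem _ _ (hcx i)
    have := Submodule.mem_map_of_mem (f := LinearMap.single A (fun _ => M) i) h1
    rw [Submodule.map_smul''] at this
    exact Submodule.smul_mono le_rfl le_top this

theorem injP_pi_iff {A M N : Type u} [CommRing A] [AddCommGroup M] [Module A M] [AddCommGroup N] [Module A N]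
    {r : ℕ} (φ : M →ₗ[A] (Fin r → N)) (p : Ideal A) [p.IsPrime] :
    InjP φ p ↔ ∀ m, (∀ i, Sat p (φ m i)) → Sat p m :=
  ⟨fun h m hm => h m ((sat_pi_iff _).2 hm), fun h m hm => h m ((sat_pi_iff _).1 hm)⟩

theorem injP_mulMap {A B M : Type u} [CommRing A] [CommRing B] [Algebra A B] [AddCommGroup M] [Module A M]
    [Module B M] [IsScalarTower A B M] {r : ℕ} (g : Fin r → B) (p : Ideal A) [p.IsPrime] :
    InjP ((mulMap g M).restrictScalars A) p ↔ ∀ m : M, (∀ i, Sat p (g i • m)) → Sat p m :=
  injP_pi_iff _ p

theorem isConstructible_injP {A B M N : Type u} [CommRing A] [IsNoetherianRing A] [CommRing B] [Algebra A B]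
    [Algebra.FiniteType A B]
    [AddCommGroup M] [Module A M] [Module B M] [IsScalarTower A B M] [Module.Finite B M]
    [AddCommGroup N] [Module A N] [Module B N] [IsScalarTower A B N] [Module.Finite B N] (φ : M →ₗ[B] N) :
    IsConstructible {p : PrimeSpectrum A | InjP (φ.restrictScalars A) p.asIdeal} := by
  suffices h : ∀ I : Ideal A,
      IsConstructible ({p : PrimeSpectrum A | InjP (φ.restrictScalars A) p.asIdeal} ∩ zeroLocus (I : Set A)) by
    have h0 := h ⊥
    rwa [show zeroLocus ((⊥ : Ideal A) : Set A) = Set.univ from Set.eq_univ_of_forall fun p x hx => (Ideal.mem_bot.1 hx) ▸ zero_mem _,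
      Set.inter_univ] at h0
  intro I
  induction I using WellFoundedGT.induction with
  | _ I ih =>
    set E := {p : PrimeSpectrum A | InjP (φ.restrictScalars A) p.asIdeal} with hE
    by_cases hI : I = ⊤
    · have e : E ∩ zeroLocus (I : Set A) = ∅ := by
        rw [hI, (zeroLocus_empty_iff_eq_top).2 rfl, Set.inter_empty]
      rw [e]; exact IsConstructible.empty
    by_cases hp : I.IsPrime
    · obtain ⟨b, hb, hdich⟩ := injP_dichotomy φ I
      have hlt : I < I ⊔ Ideal.span {b} := lt_of_le_of_ne le_sup_left fun h =>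
        hb (h ▸ Ideal.mem_sup_right (Ideal.mem_span_singleton_self b))
      have hsplit : E ∩ zeroLocus (I : Set A) =
          (E ∩ (zeroLocus (I : Set A) ∩ (zeroLocus {b})ᶜ)) ∪ (E ∩ zeroLocus ((I ⊔ Ideal.span {b} : Ideal A) : Set A)) := by
        rw [zeroLocus_sup, zeroLocus_span, ← Set.inter_union_distrib_left, ← Set.inter_union_distrib_left,
          Set.compl_union_self, Set.inter_univ]
      rw [hsplit]
      refine IsConstructible.union ?_ (ih _ hlt)
      rcases hdich with h | h
      · rw [Set.inter_eq_right.2 fun p hp => h p.asIdeal p.2 hp.1 fun hb => hp.2 (Set.singleton_subset_iff.2 hb)]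
        obtain ⟨s, hs⟩ := IsNoetherian.noetherian I
        refine IsConstructible.inter ?_ ?_
        · rw [← hs, ← Ideal.span, zeroLocus_span, ← isConstructible_compl]
          exact (isRetrocompact_zeroLocus_compl s.finite_toSet).isConstructible (isClosed_zeroLocus _).isOpen_compl
        · exact (isRetrocompact_zeroLocus_compl (Set.finite_singleton _)).isConstructible (isClosed_zeroLocus _).isOpen_compl
      · rw [show E ∩ (zeroLocus (I : Set A) ∩ (zeroLocus {b})ᶜ) = ∅ from Set.eq_empty_of_forall_notMem
          fun p hp => h p.asIdeal p.2 hp.2.1 (fun hb => hp.2.2 (Set.singleton_subset_iff.2 hb)) hp.1]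
        exact IsConstructible.empty
    · obtain ⟨a, b, hab, ha, hb⟩ : ∃ a b, a * b ∈ I ∧ a ∉ I ∧ b ∉ I := by
        by_contra h
        push Not at h
        exact hp ⟨hI, fun {x y} hxy => or_iff_not_imp_left.2 (h x y hxy)⟩
      have hlt : ∀ c, c ∉ I → I < I ⊔ Ideal.span {c} := fun c hc => lt_of_le_of_ne le_sup_left fun h =>
        hc (h ▸ Ideal.mem_sup_right (Ideal.mem_span_singleton_self c))
      have hsplit : E ∩ zeroLocus (I : Set A) = (E ∩ zeroLocus ((I ⊔ Ideal.span {a} : Ideal A) : Set A)) ∪
          (E ∩ zeroLocus ((I ⊔ Ideal.span {b} : Ideal A) : Set A)) := by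
        rw [zeroLocus_sup, zeroLocus_sup, zeroLocus_span, zeroLocus_span, ← Set.inter_union_distrib_left,
          ← Set.inter_union_distrib_left]
        congr 1
        refine (Set.inter_eq_left.2 fun p hp => ?_).symm
        rcases p.2.mem_or_mem (hp hab) with h | h
        · exact Or.inl (Set.singleton_subset_iff.2 h)
        · exact Or.inr (Set.singleton_subset_iff.2 h)
      rw [hsplit]
      exact (ih _ (hlt a ha)).union (ih _ (hlt b hb))

end Groth.Agent.RelAssGen
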