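import Mathlib
import Groth.Agent.RelAssGen.Constr

/-!
# Constructibility for finitely presented data
-/

set_option autoImplicit false
set_option linter.style.haveILetI false

universe u

open scoped TensorProduct
open PrimeSpectrum Topology

namespace Groth.Agent.RelAssGen

theorem sat_linearEquiv {A M N : Type u} [CommRing A] [AddCommGroup M] [Module A M] [AddCommGroup N] [Module A N]
    (e : M ≃ₗ[A] N) {p : Ideal A} (x : M) : Sat p (e x) ↔ Sat p x :=
  ⟨fun h => by simpa using sat_map e.symm.toLinearMap h, fun h => sat_map e.toLinearMap h⟩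

/-- The model of a finitely presented module over a model of the algebra. -/
theorem exists_module_model {A B R₀ B₀ : Type u} [CommRing A] [CommRing B] [CommRing R₀] [CommRing B₀]
    [Algebra A B] [Algebra R₀ A] [Algebra R₀ B₀] [Algebra R₀ B] [IsScalarTower R₀ A B]
    (e : A ⊗[R₀] B₀ ≃ₐ[A] B) (j : B₀ →ₐ[R₀] B) (hj : ∀ b, j b = e ((1 : A) ⊗ₜ[R₀] b))
    {n : ℕ} (K : Submodule B (Fin n → B)) (K₀ : Submodule B₀ (Fin n → B₀))
    (hle : ∀ v ∈ K₀, (fun i => j (v i)) ∈ K)
    (hgen : K ≤ Submodule.span B ((fun (v : Fin n → B₀) i => j (v i)) '' K₀)) :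
    ∃ Θ : A ⊗[R₀] ((Fin n → B₀) ⧸ K₀) ≃ₗ[A] ((Fin n → B) ⧸ K),
      ∀ v : Fin n → B₀, Θ ((1 : A) ⊗ₜ[R₀] Submodule.Quotient.mk v) = Submodule.Quotient.mk (fun i => j (v i)) := by
  classical
  let M₀ := (Fin n → B₀) ⧸ K₀
  let θ₀ : M₀ →ₗ[R₀] ((Fin n → B) ⧸ K) :=
    { toFun := fun x => Quotient.liftOn' x (fun v => Submodule.Quotient.mk (p := K) fun i => j (v i)) (fun v w h => by
        rw [Submodule.Quotient.eq]
        have := hle _ ((Submodule.quotientRel_def K₀).1 h)
        simpa [Pi.sub_def] using this)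
      map_add' := fun x y => by
        obtain ⟨v, rfl⟩ := Submodule.Quotient.mk_surjective _ x
        obtain ⟨w, rfl⟩ := Submodule.Quotient.mk_surjective _ y
        show Submodule.Quotient.mk (p := K) (fun i => j ((v + w) i)) =
          Submodule.Quotient.mk (fun i => j (v i)) + Submodule.Quotient.mk (fun i => j (w i))
        rw [← Submodule.Quotient.mk_add]
        exact congrArg _ (funext fun i => map_add j _ _)
      map_smul' := fun r x => by
        obtain ⟨v, rfl⟩ := Submodule.Quotient.mk_surjective _ x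
        show Submodule.Quotient.mk (p := K) (fun i => j ((r • v) i)) = r • Submodule.Quotient.mk (fun i => j (v i))
        rw [← Submodule.Quotient.mk_smul]
        exact congrArg _ (funext fun i => map_smul j r (v i)) }
  let Θ : A ⊗[R₀] M₀ →ₗ[A] ((Fin n → B) ⧸ K) := θ₀.liftBaseChange A
  let c : Fin n → (B →ₗ[A] A ⊗[R₀] M₀) := fun i =>
    (((Submodule.mkQ K₀).comp (LinearMap.single B₀ (fun _ => B₀) i)).restrictScalars R₀).baseChange A ∘ₗ
      e.symm.toLinearMap
  let Ω : (Fin n → B) →ₗ[A] A ⊗[R₀] M₀ := ∑ i, (c i).comp (LinearMap.proj i)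
  have hΩ : ∀ (a : A) (b : B₀) (v : Fin n → B₀),
      Ω (fun i => e (a ⊗ₜ[R₀] (b * v i))) = a ⊗ₜ[R₀] Submodule.Quotient.mk (b • v) := by
    intro a b v
    simp only [Ω, c, LinearMap.sum_apply, LinearMap.comp_apply, LinearMap.proj_apply]
    have e1 : ∀ i, e.symm.toLinearMap (e (a ⊗ₜ[R₀] (b * v i))) = a ⊗ₜ[R₀] (b * v i) := fun i => e.symm_apply_apply _
    simp only [e1, LinearMap.baseChange_tmul, LinearMap.restrictScalars_apply, LinearMap.comp_apply]
    rw [← TensorProduct.tmul_sum, ← map_sum]
    congr 1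
    exact congrArg (Submodule.Quotient.mk (p := K₀)) (Finset.univ_sum_single (b • v))
  have hΩK : ∀ v ∈ K, ∀ t : B, Ω (t • v) = 0 := by
    intro v hv
    have hv' := hgen hv
    clear hv
    induction hv' using Submodule.span_induction with
    | mem v hv =>
      obtain ⟨v, hv, rfl⟩ := hv
      intro t
      obtain ⟨t, rfl⟩ := e.surjective t
      induction t using TensorProduct.induction_on with
      | zero => rw [map_zero, zero_smul, map_zero]
      | add x y hx hy => rw [map_add, add_smul, map_add, hx, hy, add_zero]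
      | tmul a b =>
        have e2 : e (a ⊗ₜ[R₀] b) • (fun i => j (v i)) = fun i => e (a ⊗ₜ[R₀] (b * v i)) := funext fun i => by
          rw [Pi.smul_apply, smul_eq_mul, hj, ← map_mul, Algebra.TensorProduct.tmul_mul_tmul, mul_one]
        rw [e2, hΩ, (Submodule.Quotient.mk_eq_zero _).2 (K₀.smul_mem b hv), TensorProduct.tmul_zero]
    | zero => intro t; rw [smul_zero, map_zero]
    | add x y _ _ hx hy => intro t; rw [smul_add, map_add, hx, hy, add_zero]
    | smul r x _ hx => intro t; rw [smul_smul]; exact hx _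
  let Ω' : ((Fin n → B) ⧸ K) →ₗ[A] A ⊗[R₀] M₀ :=
    (Submodule.liftQ (K.restrictScalars A) Ω fun v hv => by
      rw [LinearMap.mem_ker, ← one_smul B v]; exact hΩK v hv 1).comp (Submodule.Quotient.restrictScalarsEquiv A K).symm.toLinearMap
  have hΩ' : ∀ w, Ω' (Submodule.Quotient.mk w) = Ω w := fun w => rfl
  have hΘ : ∀ v, Θ ((1 : A) ⊗ₜ[R₀] Submodule.Quotient.mk v) = Submodule.Quotient.mk (fun i => j (v i)) := fun v =>
    (LinearMap.liftBaseChange_tmul _ _ _ _).trans (one_smul _ _)
  refine ⟨LinearEquiv.ofLinear Θ Ω' (LinearMap.ext fun x => ?_) (LinearMap.ext fun x => ?_), hΘ⟩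
  · obtain ⟨w, rfl⟩ := Submodule.Quotient.mk_surjective _ x
    show Θ (Ω' (Submodule.Quotient.mk w)) = Submodule.Quotient.mk w
    rw [hΩ']
    simp only [Ω, LinearMap.sum_apply, LinearMap.comp_apply, LinearMap.proj_apply, map_sum]
    have key : ∀ i t, Θ (c i t) = Submodule.Quotient.mk (Pi.single i t) := by
      intro i t
      obtain ⟨t, rfl⟩ := e.surjective t
      induction t using TensorProduct.induction_on with
      | zero => simp only [map_zero, Pi.single_zero, Submodule.Quotient.mk_zero]
      | add x y hx hy => simp only [map_add, Pi.single_add, Submodule.Quotient.mk_add, hx, hy]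
      | tmul a b =>
        simp only [c, LinearMap.comp_apply]
        rw [show e.symm.toLinearMap (e (a ⊗ₜ[R₀] b)) = a ⊗ₜ[R₀] b from e.symm_apply_apply _, LinearMap.baseChange_tmul]
        rw [LinearMap.liftBaseChange_tmul]
        show a • Submodule.Quotient.mk (p := K) (fun k => j (Pi.single (M := fun _ => B₀) i b k)) = _
        rw [← Submodule.Quotient.mk_smul]
        refine congrArg _ (funext fun k => ?_)
        rw [Pi.smul_apply]
        rcases eq_or_ne k i with rfl | hk
        · rw [Pi.single_eq_same, Pi.single_eq_same, hj, ← map_smul, TensorProduct.smul_tmul', smul_eq_mul, mul_one]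
        · rw [Pi.single_eq_of_ne hk, Pi.single_eq_of_ne hk, map_zero, smul_zero]
    simp only [key]
    rw [← Submodule.mkQ_apply K]
    exact (map_sum (Submodule.mkQ K) _ _).symm.trans (congrArg _ (Finset.univ_sum_single w))
  · induction x using TensorProduct.induction_on with
    | zero => simp
    | add x y hx hy => simp only [map_add, hx, hy]
    | tmul a m =>
      obtain ⟨v, rfl⟩ := Submodule.Quotient.mk_surjective _ m
      show Ω' (Θ (a ⊗ₜ[R₀] Submodule.Quotient.mk v)) = _
      rw [show a ⊗ₜ[R₀] (Submodule.Quotient.mk v : M₀) = a • ((1 : A) ⊗ₜ[R₀] Submodule.Quotient.mk v) by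
        rw [TensorProduct.smul_tmul', smul_eq_mul, mul_one], map_smul, hΘ, map_smul, hΩ']
      refine congrArg (a • ·) (Eq.trans ?_ (by simpa using hΩ 1 1 v))
      exact congrArg Ω (funext fun i => hj (v i))

/-- The locus of injectivity in the fibres of a finite family of multiplications on a finitely presented module
over a finitely presented algebra is constructible. -/
theorem isConstructible_injP_fp {A B M : Type u} [CommRing A] [CommRing B] [Algebra A B]
    [Algebra.FinitePresentation A B] [AddCommGroup M] [Module A M] [Module B M] [IsScalarTower A B M]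
    [Module.FinitePresentation B M] {r : ℕ} (g : Fin r → B) :
    IsConstructible {p : PrimeSpectrum A | InjP ((mulMap g M).restrictScalars A) p.asIdeal} := by
  classical
  obtain ⟨n, K, eM, hK⟩ := Module.FinitePresentation.exists_fin B M
  obtain ⟨G, hG⟩ := hK
  obtain ⟨s, hs⟩ := SmoothStrat.exists_coeffs A B
    (Finset.univ.image g ∪ G.biUnion fun v => Finset.univ.image v)
  let R₀ : Subalgebra ℤ A := Algebra.adjoin ℤ (s : Set A)
  haveI : Algebra.FiniteType ℤ R₀ := R₀.fg_iff_finiteType.1 (Subalgebra.fg_adjoin_finset s)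
  haveI : IsNoetherianRing R₀ := Algebra.FiniteType.isNoetherianRing ℤ R₀
  obtain ⟨B₀, _, _, _, e, T₀, hT₀⟩ := hs R₀ Algebra.subset_adjoin
  haveI : IsScalarTower R₀ A B := inferInstance
  let j : B₀ →ₐ[R₀] B := (e.toAlgHom.restrictScalars R₀).comp Algebra.TensorProduct.includeRight
  have hj : ∀ b, j b = e ((1 : A) ⊗ₜ[R₀] b) := fun b => rfl
  have hlift : ∀ b ∈ Finset.univ.image g ∪ G.biUnion (fun v => Finset.univ.image v), ∃ b₀, j b₀ = b := fun b hb => by
    obtain ⟨b₀, -, h⟩ := hT₀.ge (Finset.mem_coe.2 hb)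
    exact ⟨b₀, h⟩
  choose g₀ hg₀ using fun i => hlift (g i) (Finset.mem_union_left _ (Finset.mem_image_of_mem g (Finset.mem_univ i)))
  choose lv hlv using fun (v : G) (i : Fin n) => hlift ((v : Fin n → B) i)
    (Finset.mem_union_right _ (Finset.mem_biUnion.2 ⟨v, v.2, Finset.mem_image_of_mem _ (Finset.mem_univ i)⟩))
  let K₀ : Submodule B₀ (Fin n → B₀) := Submodule.span B₀ (Set.range fun v : G => lv v)
  have hle : ∀ v ∈ K₀, (fun i => j (v i)) ∈ K := by
    intro v hv
    induction hv using Submodule.span_induction with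
    | mem v hv =>
      obtain ⟨w, rfl⟩ := hv
      rw [show (fun i => j (lv w i)) = (w : Fin n → B) from funext (hlv w), ← hG]
      exact Submodule.subset_span w.2
    | zero =>
      rw [show (fun i => j ((0 : Fin n → B₀) i)) = 0 from funext fun i => map_zero j]
      exact K.zero_mem
    | add x y _ _ hx hy =>
      rw [show (fun i => j ((x + y) i)) = (fun i => j (x i)) + fun i => j (y i) from funext fun i => map_add j _ _]
      exact K.add_mem hx hy
    | smul t x _ hx =>
      rw [show (fun i => j ((t • x) i)) = j t • fun i => j (x i) from funext fun i => map_mul j _ _]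
      exact K.smul_mem _ hx
  have hgen : K ≤ Submodule.span B ((fun (v : Fin n → B₀) i => j (v i)) '' K₀) := by
    rw [← hG]
    exact Submodule.span_le.2 fun w hw => Submodule.subset_span
      ⟨lv ⟨w, hw⟩, Submodule.subset_span ⟨⟨w, hw⟩, rfl⟩, funext (hlv ⟨w, hw⟩)⟩
  obtain ⟨Θ, hΘ⟩ := exists_module_model e j hj K K₀ hle hgen
  let M₀ := (Fin n → B₀) ⧸ K₀
  let φ₀ := (mulMap g₀ M₀).restrictScalars R₀
  have key : ∀ p : PrimeSpectrum A, InjP ((mulMap g M).restrictScalars A) p.asIdeal ↔
      InjP φ₀ (p.asIdeal.comap (algebraMap R₀ A)) := by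
    intro p
    rw [← injP_baseChange_iff φ₀ p.asIdeal, injP_mulMap]
    let π := TensorProduct.piRight R₀ A A (fun _ : Fin r => M₀)
    let Φ : A ⊗[R₀] M₀ ≃ₗ[A] M := Θ.trans (eM.restrictScalars A).symm
    have hcomm : ∀ z i, Φ (π (φ₀.baseChange A z) i) = g i • Φ z := by
      intro z i
      induction z using TensorProduct.induction_on with
      | zero => simp
      | add x y hx hy => simp only [map_add, Pi.add_apply, hx, hy, smul_add]
      | tmul a m =>
        obtain ⟨v, rfl⟩ := Submodule.Quotient.mk_surjective _ m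
        rw [LinearMap.baseChange_tmul, TensorProduct.piRight_apply, TensorProduct.piRightHom_tmul]
        show Φ (a ⊗ₜ[R₀] (g₀ i • Submodule.Quotient.mk v)) = _
        rw [← Submodule.Quotient.mk_smul]
        have h1 : ∀ (w : Fin n → B₀), Φ (a ⊗ₜ[R₀] Submodule.Quotient.mk w) =
            a • eM.symm (Submodule.Quotient.mk fun k => j (w k)) := fun w => by
          rw [show a ⊗ₜ[R₀] (Submodule.Quotient.mk w : M₀) = a • ((1 : A) ⊗ₜ[R₀] Submodule.Quotient.mk w) by
            rw [TensorProduct.smul_tmul', smul_eq_mul, mul_one], map_smul]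
          exact congrArg (a • ·) (congrArg eM.symm (hΘ w))
        rw [h1, h1, ← smul_comm a (g i), ← map_smul eM.symm (g i), ← Submodule.Quotient.mk_smul]
        refine congrArg (fun x => a • eM.symm x) (congrArg _ (funext fun k => ?_))
        rw [Pi.smul_apply, Pi.smul_apply, smul_eq_mul, smul_eq_mul, map_mul, hg₀]
    constructor
    · intro h z hz
      refine (sat_linearEquiv Φ z).1 (h (Φ z) fun i => ?_)
      rw [← hcomm]
      exact sat_map Φ.toLinearMap ((sat_pi_iff _).1 (sat_map π.toLinearMap hz) i)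
    · intro h m hm
      obtain ⟨z, rfl⟩ := Φ.surjective m
      refine (sat_linearEquiv Φ z).2 (h z ((sat_linearEquiv π _).1 ((sat_pi_iff _).2 fun i => ?_)))
      refine (sat_linearEquiv Φ _).1 ?_
      rw [hcomm]
      exact hm i
  have h0 : IsConstructible {p : PrimeSpectrum R₀ | InjP φ₀ p.asIdeal} :=
    isConstructible_injP (A := R₀) (mulMap g₀ M₀)
  have e0 : {p : PrimeSpectrum A | InjP ((mulMap g M).restrictScalars A) p.asIdeal} =
      PrimeSpectrum.comap (algebraMap R₀ A) ⁻¹' {p : PrimeSpectrum R₀ | InjP φ₀ p.asIdeal} := Set.ext fun p => key p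
  rw [e0]
  refine h0.preimage (PrimeSpectrum.continuous_comap _) fun t hto ht => ?_
  obtain ⟨u, hu⟩ := PrimeSpectrum.isCompact_isOpen_iff.1 ⟨ht.isCompact, hto⟩
  rw [← hu, Set.preimage_compl, PrimeSpectrum.preimage_comap_zeroLocus]
  exact PrimeSpectrum.isRetrocompact_zeroLocus_compl (u.finite_toSet.image _)

end Groth.Agent.RelAssGen
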