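import Mathlib
import Groth.Agent.RelAssGen.Alg
import Groth.Agent.QCoh.Stalk
import Groth.Agent.QCoh.Support
import Groth.Agent.QCoh.FT
import Groth.Prelude.Def_MoreMor

/-!
# The relative assassin near a relatively associated point
-/

set_option autoImplicit false
set_option linter.style.haveILetI false
set_option backward.isDefEq.respectTransparency false
set_option backward.isDefEq.respectTransparency.types false

universe u

open CategoryTheory AlgebraicGeometry IsLocalRing TopologicalSpace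

namespace Groth.Agent.RelAssGen

section Local

variable {A B M Bl Ml : Type u} [CommRing A] [CommRing B] [Algebra A B] [AddCommGroup M] [Module A M] [Module B M]
  [IsScalarTower A B M] [CommRing Bl] [Algebra B Bl] [AddCommGroup Ml] [Module B Ml] [Module Bl Ml]
  [IsScalarTower B Bl Ml] (r : Ideal B) [r.IsPrime] [IsLocalization.AtPrime Bl r]
  (φ : M →ₗ[B] Ml) [IsLocalizedModule r.primeCompl φ] (p : Ideal A)

theorem mem_loc_smul_iff (x : M) :
    φ x ∈ (p.map (algebraMap A B)).map (algebraMap B Bl) • (⊤ : Submodule Bl Ml) ↔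
      ∃ s, s ∉ r ∧ s • x ∈ p • (⊤ : Submodule A M) := by
  constructor
  · intro hx
    have key : ∀ y ∈ (p.map (algebraMap A B)).map (algebraMap B Bl) • (⊤ : Submodule Bl Ml),
        ∃ s, s ∉ r ∧ ∃ z ∈ p.map (algebraMap A B) • (⊤ : Submodule B M), s • y = φ z := by
      intro y hy
      refine Submodule.smul_induction_on hy (fun c hc w _ => ?_) ?_
      · obtain ⟨⟨⟨u, hu⟩, s₁⟩, hus⟩ := (IsLocalization.mem_map_algebraMap_iff r.primeCompl Bl).1 hc
        obtain ⟨⟨w₀, s₂⟩, hw⟩ := IsLocalizedModule.surj r.primeCompl φ w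
        refine ⟨(s₁ : B) * s₂, (r.primeCompl.mul_mem s₁.2 s₂.2 :), u • w₀,
          Submodule.smul_mem_smul hu trivial, ?_⟩
        rw [map_smul, ← hw, Submonoid.smul_def, mul_comm, mul_smul, smul_comm u (s₂ : B),
          ← algebraMap_smul Bl (s₁ : B) (c • w), smul_smul, mul_comm (algebraMap B Bl s₁), hus, algebraMap_smul]
      · rintro y y' ⟨s, hs, z, hz, hy⟩ ⟨s', hs', z', hz', hy'⟩
        refine ⟨s * s', (r.primeCompl.mul_mem hs hs' :), s' • z + s • z',
          add_mem (Submodule.smul_mem _ _ hz) (Submodule.smul_mem _ _ hz'), ?_⟩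
        rw [map_add, map_smul, map_smul, ← hy, ← hy', smul_add, smul_smul, smul_smul, mul_comm s' s]
    obtain ⟨s, hs, z, hz, hsz⟩ := key _ hx
    rw [← map_smul] at hsz
    obtain ⟨⟨c, hc⟩, hcz⟩ := (IsLocalizedModule.eq_iff_exists r.primeCompl φ).1 hsz
    refine ⟨c * s, (r.primeCompl.mul_mem hc hs :), (mem_map_smul_top (B := B) p _).1 ?_⟩
    rw [mul_smul]
    exact (show c • (s • x) = c • z from hcz) ▸ Submodule.smul_mem _ _ hz
  · rintro ⟨s, hs, hx⟩
    have h1 : φ (s • x) ∈ (p.map (algebraMap A B)).map (algebraMap B Bl) • (⊤ : Submodule Bl Ml) := by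
      refine Submodule.smul_induction_on ((mem_map_smul_top (B := B) p _).2 hx) (fun c hc w _ => ?_)
        fun y y' hy hy' => by rw [map_add]; exact add_mem hy hy'
      rw [map_smul, ← algebraMap_smul Bl c]
      exact Submodule.smul_mem_smul (Ideal.mem_map_of_mem _ hc) trivial
    rw [map_smul, ← algebraMap_smul Bl s] at h1
    obtain ⟨v, hv⟩ := IsLocalization.map_units Bl (⟨s, hs⟩ : r.primeCompl)
    have h2 := Submodule.smul_mem _ (↑v⁻¹ : Bl) h1
    rwa [smul_smul, show algebraMap B Bl s = v from hv.symm, Units.inv_mul, one_smul] at h2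

variable [IsLocalRing Bl]

include φ

theorem isAssociatedPrime_of_conds (m : M) (h1 : ∀ s, s ∉ r → s • m ∉ p • (⊤ : Submodule A M))
    (h2 : ∀ r' : Ideal B, r'.IsPrime → r' ≤ r → (∀ b, b • m ∈ p • (⊤ : Submodule A M) → b ∈ r') → r' = r) :
    IsAssociatedPrime (maximalIdeal Bl)
      (Ml ⧸ (p.map (algebraMap A B)).map (algebraMap B Bl) • (⊤ : Submodule Bl Ml)) := by
  let x : Ml ⧸ (p.map (algebraMap A B)).map (algebraMap B Bl) • (⊤ : Submodule Bl Ml) := Submodule.Quotient.mk (φ m)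
  have hx : x ≠ 0 := fun h => by
    obtain ⟨s, hs, hsm⟩ := (mem_loc_smul_iff r φ p m).1 ((Submodule.Quotient.mk_eq_zero _).1 h)
    exact h1 s hs hsm
  refine ⟨(maximalIdeal.isMaximal Bl).isPrime, x, le_antisymm ?_ (le_maximalIdeal ?_)⟩
  · rw [Ideal.radical_eq_sInf]
    refine le_sInf fun P ⟨hP, hPp⟩ => ?_
    have hr' : P.comap (algebraMap B Bl) ≤ r := by
      rw [← IsLocalization.AtPrime.comap_maximalIdeal Bl r]
      exact Ideal.comap_mono (le_maximalIdeal hPp.ne_top)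
    have he := h2 (P.comap (algebraMap B Bl)) inferInstance hr' fun b hb => by
      refine hP (Submodule.mem_colon_singleton.2 ?_)
      rw [Submodule.mem_bot, ← Submodule.Quotient.mk_smul, Submodule.Quotient.mk_eq_zero, algebraMap_smul, ← map_smul]
      exact (mem_loc_smul_iff r φ p _).2 ⟨1, fun h => ‹r.IsPrime›.ne_top ((Ideal.eq_top_iff_one _).2 h), by rwa [one_smul]⟩
    rw [← IsLocalization.map_comap r.primeCompl Bl (maximalIdeal Bl), IsLocalization.AtPrime.comap_maximalIdeal Bl r,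
      ← he, IsLocalization.map_comap r.primeCompl Bl P]
  · intro h
    rw [Ideal.radical_eq_top, Ideal.eq_top_iff_one, Submodule.mem_colon_singleton, one_smul, Submodule.mem_bot] at h
    exact hx h

theorem exists_conds_of_isAssociatedPrime
    (h : IsAssociatedPrime (maximalIdeal Bl)
      (Ml ⧸ (p.map (algebraMap A B)).map (algebraMap B Bl) • (⊤ : Submodule Bl Ml))) :
    ∃ m : M, (∀ b ∈ r, ∃ t, t ∉ r ∧ ∃ n : ℕ, (t * b ^ n) • m ∈ p • (⊤ : Submodule A M)) ∧
      ∀ s, s ∉ r → s • m ∉ p • (⊤ : Submodule A M) := by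
  obtain ⟨hmax, x, hx⟩ := h
  obtain ⟨y, rfl⟩ := Submodule.Quotient.mk_surjective _ x
  obtain ⟨⟨m, s₀⟩, hm⟩ := IsLocalizedModule.surj r.primeCompl φ y
  rw [Submonoid.smul_def, ← algebraMap_smul Bl] at hm
  refine ⟨m, fun b hb => ?_, fun s hs hsm => ?_⟩
  · have hb' : algebraMap B Bl b ∈ maximalIdeal Bl := by
      rw [← Ideal.mem_comap]; exact (IsLocalization.AtPrime.under_maximalIdeal Bl r).ge hb
    rw [hx] at hb'
    obtain ⟨n, hn⟩ := hb'
    rw [Submodule.mem_colon_singleton, Submodule.mem_bot, ← Submodule.Quotient.mk_smul,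
      Submodule.Quotient.mk_eq_zero] at hn
    have h2 : φ (b ^ n • m) ∈ (p.map (algebraMap A B)).map (algebraMap B Bl) • (⊤ : Submodule Bl Ml) := by
      rw [map_smul, ← hm, ← algebraMap_smul Bl (b ^ n), map_pow, smul_comm]
      exact Submodule.smul_mem _ _ hn
    obtain ⟨t, ht, htm⟩ := (mem_loc_smul_iff r φ p _).1 h2
    exact ⟨t, ht, n, by rwa [mul_smul]⟩
  · have h2 := (mem_loc_smul_iff (Bl := Bl) r φ p m).2 ⟨s, hs, hsm⟩
    rw [← hm] at h2
    obtain ⟨v, hv⟩ := IsLocalization.map_units Bl s₀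
    have h3 := Submodule.smul_mem _ (↑v⁻¹ : Bl) h2
    rw [smul_smul, ← hv, Units.inv_mul, one_smul] at h3
    refine hmax.ne_top ?_
    rw [hx, Ideal.radical_eq_top, Ideal.eq_top_iff_one, Submodule.mem_colon_singleton, one_smul, Submodule.mem_bot]
    exact (Submodule.Quotient.mk_eq_zero _).2 h3

end Local

theorem specializes_iff_prime_le {X : Scheme.{u}} {U : X.Opens} (hU : IsAffineOpen U) {x z : X} (hx : x ∈ U)
    (hz : z ∈ U) : z ⤳ x ↔ (hU.primeIdealOf ⟨z, hz⟩).asIdeal ≤ (hU.primeIdealOf ⟨x, hx⟩).asIdeal := by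
  have h := (hU.fromSpec.isOpenEmbedding.isInducing.specializes_iff (x := hU.primeIdealOf ⟨z, hz⟩)
    (y := hU.primeIdealOf ⟨x, hx⟩)).trans (PrimeSpectrum.le_iff_specializes _ _).symm
  rw [hU.fromSpec_primeIdealOf, hU.fromSpec_primeIdealOf] at h
  exact h

/-- Points minimal in their fibres among the points of `closure {ξ} ∩ D`. -/
def IsFibreMin {X S : Scheme.{u}} (f : X ⟶ S) (ξ : X) (D : X.Opens) (x : X) : Prop :=
  ∀ x', x' ∈ closure ({ξ} : Set X) → x' ∈ D → x' ⤳ x → f x' = f x → x' = x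

/-- Near a relatively associated point. -/
theorem exists_nhd {X S : Scheme.{u}} (f : X ⟶ S) [LocallyOfFiniteType f] (F : X.Modules) (hF : Coh.IsCoh F)
    (ξ : X) (hξ : ξ ∈ MoreMor.relAss f F) :
    ∃ (D : X.Opens) (W : S.Opens), ξ ∈ D ∧ f ξ ∈ W ∧
      (∀ x, x ∈ closure ({ξ} : Set X) → x ∈ D → IsFibreMin f ξ D x → x ∈ MoreMor.relAss f F) ∧
      ∀ y, y ∈ closure ({f ξ} : Set S) → y ∈ W →
        ∃ x, x ∈ closure ({ξ} : Set X) ∧ x ∈ D ∧ f x = y ∧ IsFibreMin f ξ D x := by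
  obtain ⟨_, ⟨V, hV, rfl⟩, hξV, -⟩ := S.isBasis_affineOpens.exists_subset_of_mem_open (Set.mem_univ (f ξ)) isOpen_univ
  obtain ⟨_, ⟨U, hU, rfl⟩, hξU, hUV⟩ :=
    X.isBasis_affineOpens.exists_subset_of_mem_open (show ξ ∈ (f ⁻¹ᵁ V : X.Opens) from hξV) (f ⁻¹ᵁ V).2
  replace hU : IsAffineOpen U := hU
  replace hV : IsAffineOpen V := hV
  replace hξV : f ξ ∈ V := hξV
  replace hUV : U ≤ f ⁻¹ᵁ V := hUV
  letI : Algebra Γ(S, V) Γ(X, U) := (f.appLE V U hUV).hom.toAlgebra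
  letI : Module Γ(S, V) Γ(F, U) := Module.compHom _ (f.appLE V U hUV).hom
  haveI : IsScalarTower Γ(S, V) Γ(X, U) Γ(F, U) := IsScalarTower.of_algebraMap_smul fun _ _ => rfl
  haveI : Algebra.FiniteType Γ(S, V) Γ(X, U) := f.finiteType_appLE hV hU hUV
  haveI : Module.Finite Γ(X, U) Γ(F, U) := QCoh.finite_of_isFT hF.1 hF.2 hU
  -- dictionary
  have hp : ∀ (x : X) (hx : x ∈ U), (hU.primeIdealOf ⟨x, hx⟩).asIdeal.comap (algebraMap Γ(S, V) Γ(X, U)) =
      (hV.primeIdealOf ⟨f x, hUV hx⟩).asIdeal := fun x hx =>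
    congrArg PrimeSpectrum.asIdeal (IsAffineOpen.comap_primeIdealOf_appLE V hV U hU hUV hx)
  have hbr : ∀ (x : X) (hx : x ∈ U),
      letI := QCoh.stalkAlg (X := X) (U := U) (x := x) hx
      Ideal.map (f.stalkMap x).hom (maximalIdeal (S.presheaf.stalk (f x))) =
        (((hU.primeIdealOf ⟨x, hx⟩).asIdeal.comap (algebraMap Γ(S, V) Γ(X, U))).map
          (algebraMap Γ(S, V) Γ(X, U))).map (algebraMap Γ(X, U) (X.presheaf.stalk x)) := by
    intro x hx
    letI := QCoh.stalkAlg (X := X) (U := U) (x := x) hx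
    letI := QCoh.stalkAlg (X := S) (U := V) (x := f x) (hUV hx)
    haveI := QCoh.isLocalization_stalk' hV (hUV hx)
    rw [hp x hx, ← IsLocalization.AtPrime.map_eq_maximalIdeal (hV.primeIdealOf ⟨f x, hUV hx⟩).asIdeal
      (S.presheaf.stalk (f x)), Ideal.map_map, Ideal.map_map]
    congr 1
    refine RingHom.ext fun a => ?_
    show f.stalkMap x (S.presheaf.germ V (f x) (hUV hx) a) = X.presheaf.germ U x hx (f.appLE V U hUV a)
    rw [Scheme.Hom.germ_stalkMap_apply f V x (hUV hx) a]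
    exact (X.presheaf.germ_res_apply (homOfLE hUV) x hx _).symm
  let q := (hU.primeIdealOf ⟨ξ, hξU⟩).asIdeal
  obtain ⟨m, hann, hm⟩ : ∃ m : Γ(F, U),
      (∀ b ∈ q, ∃ t, t ∉ q ∧ ∃ n : ℕ, (t * b ^ n) • m ∈ q.comap (algebraMap Γ(S, V) Γ(X, U)) • (⊤ : Submodule Γ(S, V) Γ(F, U))) ∧
      ∀ s, s ∉ q → s • m ∉ q.comap (algebraMap Γ(S, V) Γ(X, U)) • (⊤ : Submodule Γ(S, V) Γ(F, U)) := by
    letI := QCoh.stalkAlg (X := X) (U := U) (x := ξ) hξU
    letI := QCoh.stalkModule F hξU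
    haveI := QCoh.isScalarTower_stalk F hξU
    haveI := QCoh.isLocalization_stalk' hU hξU
    haveI := QCoh.isLocalizedModule_germLin hF.1 hU hξU
    refine exists_conds_of_isAssociatedPrime (Bl := X.presheaf.stalk ξ) q (QCoh.germLin F hξU) _ ?_
    rw [← hbr ξ hξU]
    exact hξ
  obtain ⟨g, hgq, a, haq, hA, hFib⟩ := exists_ass_nhd q m hann hm
  let D : X.Opens := X.basicOpen (g * algebraMap Γ(S, V) Γ(X, U) a)
  have hDU : D ≤ U := X.basicOpen_le _
  have hD : ∀ (x : X) (hx : x ∈ U), x ∈ D ↔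
      g ∉ (hU.primeIdealOf ⟨x, hx⟩).asIdeal ∧ algebraMap Γ(S, V) Γ(X, U) a ∉ (hU.primeIdealOf ⟨x, hx⟩).asIdeal := by
    intro x hx
    rw [QCoh.mem_basicOpen_iff_notMem hU hx, (hU.primeIdealOf ⟨x, hx⟩).2.mul_mem_iff_mem_or_mem, not_or]
  have hcl : ∀ (x : X) (hx : x ∈ U), x ∈ closure ({ξ} : Set X) ↔ q ≤ (hU.primeIdealOf ⟨x, hx⟩).asIdeal := by
    intro x hx
    rw [← specializes_iff_mem_closure]
    exact specializes_iff_prime_le hU hx hξU
  have hfeq : ∀ (x x' : X) (hx : x ∈ U) (hx' : x' ∈ U), f x' = f x ↔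
      (hU.primeIdealOf ⟨x', hx'⟩).asIdeal.comap (algebraMap Γ(S, V) Γ(X, U)) =
        (hU.primeIdealOf ⟨x, hx⟩).asIdeal.comap (algebraMap Γ(S, V) Γ(X, U)) := by
    intro x x' hx hx'
    rw [hp x hx, hp x' hx']
    refine ⟨fun h => by congr, fun h => ?_⟩
    have h2 := congrArg hV.fromSpec (PrimeSpectrum.ext h)
    rwa [hV.fromSpec_primeIdealOf, hV.fromSpec_primeIdealOf] at h2
  refine ⟨D, S.basicOpen a, (hD ξ hξU).2 ⟨hgq, haq⟩, ?_, ?_, ?_⟩
  · rw [QCoh.mem_basicOpen_iff_notMem hV hξV, ← hp ξ hξU]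
    exact haq
  · intro x hxc hxD hmin
    have hx : x ∈ U := hDU hxD
    obtain ⟨hg, ha⟩ := (hD x hx).1 hxD
    have hqr := (hcl x hx).1 hxc
    obtain ⟨h1, h2⟩ := hA _ (hU.primeIdealOf ⟨x, hx⟩).2 hqr hg ha (fun r' hr' hqr' hr'r he => by
      obtain ⟨x', hx', hx'P⟩ := QCoh.exists_point hU ⟨r', hr'⟩
      have e : (hU.primeIdealOf ⟨x', hx'⟩).asIdeal = r' := congrArg PrimeSpectrum.asIdeal hx'P
      subst e
      have hs : x' ⤳ x := (specializes_iff_prime_le hU hx hx').2 hr'r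
      have := hmin x' ((hcl x' hx').2 hqr') ((hD x' hx').2 ⟨fun h => hg (hr'r h), fun h => ha (hr'r h)⟩) hs
        ((hfeq x x' hx hx').2 he)
      subst this
      rfl)
    letI := QCoh.stalkAlg (X := X) (U := U) (x := x) hx
    letI := QCoh.stalkModule F hx
    haveI := QCoh.isScalarTower_stalk F hx
    haveI := QCoh.isLocalization_stalk' hU hx
    haveI := QCoh.isLocalizedModule_germLin hF.1 hU hx
    have h3 := isAssociatedPrime_of_conds (Bl := X.presheaf.stalk x) (hU.primeIdealOf ⟨x, hx⟩).asIdeal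
      (QCoh.germLin F hx) _ m h1 h2
    rw [← hbr x hx] at h3
    exact h3
  · intro y hy hyW
    have hyV : y ∈ V := S.basicOpen_le _ hyW
    have hle : (hV.primeIdealOf ⟨f ξ, hξV⟩).asIdeal ≤ (hV.primeIdealOf ⟨y, hyV⟩).asIdeal :=
      (specializes_iff_prime_le hV hyV hξV).1 (specializes_iff_mem_closure.2 hy)
    obtain ⟨r, hr, hrp, hqr, hgr, hmin⟩ := hFib _ (hV.primeIdealOf ⟨y, hyV⟩).2 ((hp ξ hξU).le.trans hle)
      ((QCoh.mem_basicOpen_iff_notMem hV hyV a).1 hyW)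
    obtain ⟨x, hx, hxP⟩ := QCoh.exists_point hU ⟨r, hr⟩
    have e : (hU.primeIdealOf ⟨x, hx⟩).asIdeal = r := congrArg PrimeSpectrum.asIdeal hxP
    subst e
    have har : algebraMap Γ(S, V) Γ(X, U) a ∉ (hU.primeIdealOf ⟨x, hx⟩).asIdeal := fun h =>
      (QCoh.mem_basicOpen_iff_notMem hV hyV a).1 hyW (hrp ▸ h : a ∈ (hV.primeIdealOf ⟨y, hyV⟩).asIdeal)
    have hfx : f x = y := by
      have h2 := congrArg hV.fromSpec (PrimeSpectrum.ext ((hp x hx).symm.trans hrp))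
      rwa [hV.fromSpec_primeIdealOf, hV.fromSpec_primeIdealOf] at h2
    refine ⟨x, (hcl x hx).2 hqr, (hD x hx).2 ⟨hgr, har⟩, hfx, fun x' hc' hD' hs hf => ?_⟩
    have hx' : x' ∈ U := hDU hD'
    have he := hmin _ (hU.primeIdealOf ⟨x', hx'⟩).2 ((hcl x' hx').1 hc') ((specializes_iff_prime_le hU hx hx').1 hs)
      ((hfeq x x' hx hx').1 hf)
    have h2 := congrArg hU.fromSpec (PrimeSpectrum.ext he)
    rwa [hU.fromSpec_primeIdealOf, hU.fromSpec_primeIdealOf] at h2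

end Groth.Agent.RelAssGen
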