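import Mathlib
import Groth.Agent.RelAssGen.Scheme
import Groth.Agent.RelAssGen.ConstrFp

/-!
# The relative assassin and injectivity in the fibres
-/

set_option autoImplicit false
set_option linter.style.haveILetI false
set_option backward.isDefEq.respectTransparency false
set_option backward.isDefEq.respectTransparency.types false

universe u

open CategoryTheory AlgebraicGeometry IsLocalRing TopologicalSpace

namespace Groth.Agent.RelAssGen

section Ring

variable {A B M : Type u} [CommRing A] [CommRing B] [Algebra A B] [AddCommGroup M] [Module A M] [Module B M]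
  [IsScalarTower A B M]

/-- The data of a relatively associated prime. -/
def Conds (r : Ideal B) (p : Ideal A) (m : M) : Prop :=
  (∀ b ∈ r, ∃ t, t ∉ r ∧ ∃ n : ℕ, (t * b ^ n) • m ∈ p • (⊤ : Submodule A M)) ∧
    ∀ s, s ∉ r → s • m ∉ p • (⊤ : Submodule A M)

theorem injP_mulMap_iff_conds {n : ℕ} (g : Fin n → B) (p : Ideal A) [p.IsPrime] :
    InjP ((mulMap g M).restrictScalars A) p ↔
      ∀ r : Ideal B, r.IsPrime → r.comap (algebraMap A B) = p → (∀ i, g i ∈ r) → ¬ ∃ m : M, Conds r p m := by
  classical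
  rw [injP_mulMap]
  constructor
  · intro h r hr hrp hg ⟨m, hann, hm⟩
    choose t ht e he using fun i => hann (g i) (hg i)
    let T := ∏ i, t i
    have hT : T ∉ r := fun h => by
      obtain ⟨i, -, hi⟩ := (Ideal.IsPrime.prod_mem_iff (p := r)).1 h
      exact ht i hi
    have hnil : ∀ i, Sat p ((g i ^ e i) • T • m) := fun i => by
      obtain ⟨d, hd⟩ := Finset.dvd_prod_of_mem t (Finset.mem_univ i)
      refine ⟨1, ‹p.IsPrime›.one_notMem, ?_⟩
      rw [one_smul, smul_smul, show T = t i * d from hd, show g i ^ e i * (t i * d) = d * (t i * g i ^ e i) by ring,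
        mul_smul]
      have h1 := (mem_map_smul_top (B := B) p _).2 (he i)
      exact (mem_map_smul_top (B := B) p _).1 (Submodule.smul_mem _ d h1)
    let I : Ideal B := Ideal.span (Set.range g)
    have hsatmul : ∀ (b : B) (x : M), Sat p x → Sat p (b • x) := fun b x hx =>
      sat_map ((LinearMap.lsmul B M b).restrictScalars A) hx
    have hP : ∀ N, ∀ x : M, (∀ f : Fin N → Fin n, Sat p ((∏ k, g (f k)) • x)) → Sat p x := by
      intro N
      induction N with
      | zero => intro x hx; simpa using hx (fun k => k.elim0)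
      | succ N ih =>
        intro x hx
        refine ih x fun f => h _ fun i => ?_
        have := hx (Fin.cons i f)
        rw [Fin.prod_univ_succ] at this
        simpa [mul_smul] using this
    have hbig : ∀ f : Fin ((∑ i, e i) + 1) → Fin n, Sat p ((∏ k, g (f k)) • T • m) := fun f => by
      obtain ⟨i, hi⟩ : ∃ i, e i ≤ (Finset.univ.filter fun k => f k = i).card := by
        by_contra hc
        push Not at hc
        have h1 := Finset.card_eq_sum_card_fiberwise (f := f) (s := Finset.univ) (t := Finset.univ) fun _ _ => Finset.mem_univ _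
        have h2 : ∑ i, (Finset.univ.filter fun k => f k = i).card ≤ ∑ i, e i := Finset.sum_le_sum fun i _ => (hc i).le
        simp only [Finset.card_univ, Fintype.card_fin] at h1
        omega
      obtain ⟨d, hd⟩ : g i ^ e i ∣ ∏ k, g (f k) := by
        refine dvd_trans (pow_dvd_pow _ hi) ?_
        rw [← Finset.prod_filter_mul_prod_filter_not Finset.univ (fun k => f k = i)]
        refine dvd_mul_of_dvd_left (dvd_of_eq ?_) _
        rw [← Finset.prod_const]
        exact Finset.prod_congr rfl fun k hk => by rw [(Finset.mem_filter.1 hk).2]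
      rw [hd, mul_comm, mul_smul]
      exact hsatmul _ _ (hnil i)
    obtain ⟨c, hc, hcm⟩ := hP _ _ hbig
    have hcr : algebraMap A B c ∉ r := fun h => hc (hrp ▸ Ideal.mem_comap.2 h)
    rw [← algebraMap_smul B c, smul_smul] at hcm
    exact hm _ (fun h => (hr.mem_or_mem h).elim hcr hT) hcm
  · intro h m hm
    by_contra hns
    let J : Ideal B :=
      { carrier := {b | Sat p (b • m)}
        add_mem' := fun {a b} ha hb => by
          obtain ⟨c, hc, hca⟩ := ha
          obtain ⟨c', hc', hcb⟩ := hb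
          refine ⟨c * c', fun h => (‹p.IsPrime›.mem_or_mem h).elim hc hc', ?_⟩
          rw [add_smul, smul_add]
          refine add_mem ?_ ?_
          · rw [mul_comm, mul_smul]; exact Submodule.smul_mem _ _ hca
          · rw [mul_smul]; exact Submodule.smul_mem _ _ hcb
        zero_mem' := ⟨1, ‹p.IsPrime›.one_notMem, by rw [zero_smul, smul_zero]; exact zero_mem _⟩
        smul_mem' := fun b x hx => by
          show Sat p ((b * x) • m)
          rw [mul_smul]
          exact sat_map ((LinearMap.lsmul B M b).restrictScalars A) hx }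
    have hJ : J ≠ ⊤ := fun hJ => hns (by
      have h1 : Sat p ((1 : B) • m) := (show (1 : B) ∈ J from hJ ▸ trivial)
      rwa [one_smul] at h1)
    obtain ⟨r, hr⟩ : J.minimalPrimes.Nonempty := Set.nonempty_coe_sort.1 (Ideal.nonempty_minimalPrimes hJ)
    haveI := hr.1.1
    have hloc : ∀ b ∈ r, ∃ t, t ∉ r ∧ ∃ k : ℕ, t * b ^ k ∈ J := by
      intro b hb
      by_contra hc
      push Not at hc
      let S : Submonoid B := r.primeCompl ⊔ Submonoid.powers b
      have hdisj : Disjoint (J : Set B) (S : Set B) := by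
        rw [Set.disjoint_left]
        intro x hxJ hxS
        obtain ⟨t, ht, _, ⟨k, rfl⟩, rfl⟩ := Submonoid.mem_sup.1 hxS
        exact hc t ht k hxJ
      obtain ⟨P, hP, hJP, hPS⟩ := Ideal.exists_le_prime_disjoint J S hdisj
      have hPr : P ≤ r := fun x hx => by
        by_contra hxr
        exact Set.disjoint_left.1 hPS hx (Submonoid.mem_sup_left hxr)
      exact Set.disjoint_left.1 hPS (hr.2 ⟨hP, hJP⟩ hPr hb) (Submonoid.mem_sup_right (Submonoid.mem_powers b))
    have hrp : r.comap (algebraMap A B) = p := by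
      refine le_antisymm (fun c hc => ?_) fun c hc => hr.1.2 ?_
      · by_contra hcp
        obtain ⟨t, ht, k, htk⟩ := hloc _ hc
        refine ht (hr.1.2 ?_)
        obtain ⟨d, hd, hdm⟩ : Sat p ((t * algebraMap A B c ^ k) • m) := htk
        refine ⟨d * c ^ k, fun h => (‹p.IsPrime›.mem_or_mem h).elim hd (fun h => hcp (‹p.IsPrime›.mem_of_pow_mem k h)), ?_⟩
        rw [mul_smul, ← algebraMap_smul B (c ^ k), map_pow, smul_smul, mul_comm]
        exact hdm
      · refine ⟨1, ‹p.IsPrime›.one_notMem, ?_⟩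
        rw [one_smul, algebraMap_smul]
        exact Submodule.smul_mem_smul hc trivial
    refine h r hr.1.1 hrp (fun i => hr.1.2 (hm i)) ⟨m, fun b hb => ?_, fun s hs hsm => hs (hr.1.2 ⟨1, ‹p.IsPrime›.one_notMem, by rwa [one_smul]⟩)⟩
    obtain ⟨t, ht, k, d, hd, hdm⟩ := hloc b hb
    refine ⟨algebraMap A B d * t, fun h => (hr.1.1.mem_or_mem h).elim (fun h => hd (hrp ▸ Ideal.mem_comap.2 h)) ht, k, ?_⟩
    rw [mul_assoc, mul_smul, algebraMap_smul]
    exact hdm

end Ring

/-- Points of an affine chart in the relative assassin. -/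
theorem injP_iff_relAss {X S : Scheme.{u}} (f : X ⟶ S) (F : X.Modules) (hF : Coh.IsQCoh F) {V : S.Opens}
    (hV : IsAffineOpen V) {U : X.Opens} (hU : IsAffineOpen U) (hUV : U ≤ f ⁻¹ᵁ V) {n : ℕ} (g : Fin n → Γ(X, U))
    (y : S) (hyV : y ∈ V) :
    letI : Algebra Γ(S, V) Γ(X, U) := (f.appLE V U hUV).hom.toAlgebra
    letI : Module Γ(S, V) Γ(F, U) := Module.compHom _ (f.appLE V U hUV).hom
    haveI : IsScalarTower Γ(S, V) Γ(X, U) Γ(F, U) := IsScalarTower.of_algebraMap_smul fun _ _ => rfl
    InjP ((mulMap g Γ(F, U)).restrictScalars Γ(S, V)) (hV.primeIdealOf ⟨y, hyV⟩).asIdeal ↔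
      ∀ x ∈ U, f x = y → x ∈ MoreMor.relAss f F → ∃ i, x ∈ X.basicOpen (g i) := by
  letI : Algebra Γ(S, V) Γ(X, U) := (f.appLE V U hUV).hom.toAlgebra
  letI : Module Γ(S, V) Γ(F, U) := Module.compHom _ (f.appLE V U hUV).hom
  haveI : IsScalarTower Γ(S, V) Γ(X, U) Γ(F, U) := IsScalarTower.of_algebraMap_smul fun _ _ => rfl
  -- dictionary
  have hp : ∀ (x : X) (hx : x ∈ U), (hU.primeIdealOf ⟨x, hx⟩).asIdeal.comap (algebraMap Γ(S, V) Γ(X, U)) =
      (hV.primeIdealOf ⟨f x, hUV hx⟩).asIdeal := fun x hx =>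
    congrArg PrimeSpectrum.asIdeal (IsAffineOpen.comap_primeIdealOf_appLE V hV U hU hUV hx)
  have hbr : ∀ (x : X) (hx : x ∈ U),
      letI := QCoh.stalkAlg (X := X) (U := U) (x := x) hx
      Ideal.map (f.stalkMap x).hom (maximalIdeal (S.presheaf.stalk (f x))) =
        (((hU.primeIdealOf ⟨x, hx⟩).asIdeal.comap (algebraMap Γ(S, V) Γ(X, U))).map
          (algebraMap Γ(S, V) Γ(X, U))).map (algebraMap Γ(X, U) (X.presheaf.stalk x)) := by
    intro x hx
    letI := QCoh.stalkAlg (X := X) (U := U) (x := x) hx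
    letI := QCoh.stalkAlg (X := S) (U := V) (x := f x) (hUV hx)
    haveI := QCoh.isLocalization_stalk' hV (hUV hx)
    rw [hp x hx, ← IsLocalization.AtPrime.map_eq_maximalIdeal (hV.primeIdealOf ⟨f x, hUV hx⟩).asIdeal
      (S.presheaf.stalk (f x)), Ideal.map_map, Ideal.map_map]
    congr 1
    refine RingHom.ext fun a => ?_
    show f.stalkMap x (S.presheaf.germ V (f x) (hUV hx) a) = X.presheaf.germ U x hx (f.appLE V U hUV a)
    rw [Scheme.Hom.germ_stalkMap_apply f V x (hUV hx) a]
    exact (X.presheaf.germ_res_apply (homOfLE hUV) x hx _).symm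
  rw [injP_mulMap_iff_conds]
  constructor
  · intro h x hx hxy hass
    subst hxy
    by_contra hno
    push Not at hno
    refine h _ (hU.primeIdealOf ⟨x, hx⟩).2 (hp x hx) (fun i => ?_) ?_
    · by_contra hi
      exact hno i ((QCoh.mem_basicOpen_iff_notMem hU hx _).2 hi)
    · rw [← hp x hx]
      letI := QCoh.stalkAlg (X := X) (U := U) (x := x) hx
      letI := QCoh.stalkModule F hx
      haveI := QCoh.isScalarTower_stalk F hx
      haveI := QCoh.isLocalization_stalk' hU hx
      haveI := QCoh.isLocalizedModule_germLin hF hU hx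
      refine exists_conds_of_isAssociatedPrime (Bl := X.presheaf.stalk x) _ (QCoh.germLin F hx) _ ?_
      rw [← hbr x hx]
      exact hass
  · rintro h r hr hrp hg ⟨m, hm⟩
    obtain ⟨x, hx, hxP⟩ := QCoh.exists_point hU ⟨r, hr⟩
    have e : (hU.primeIdealOf ⟨x, hx⟩).asIdeal = r := congrArg PrimeSpectrum.asIdeal hxP
    subst e
    have hfx : f x = y := by
      have h2 := congrArg hV.fromSpec (PrimeSpectrum.ext ((hp x hx).symm.trans hrp))
      rwa [hV.fromSpec_primeIdealOf, hV.fromSpec_primeIdealOf] at h2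
    rw [← hrp] at hm
    letI := QCoh.stalkAlg (X := X) (U := U) (x := x) hx
    letI := QCoh.stalkModule F hx
    haveI := QCoh.isScalarTower_stalk F hx
    haveI := QCoh.isLocalization_stalk' hU hx
    haveI := QCoh.isLocalizedModule_germLin hF hU hx
    have h3 := isAssociatedPrime_of_conds (Bl := X.presheaf.stalk x) (hU.primeIdealOf ⟨x, hx⟩).asIdeal
      (QCoh.germLin F hx) _ m hm.2 fun r' hr' hr'r hall => le_antisymm hr'r fun b hb => by
        obtain ⟨t, ht, k, htk⟩ := hm.1 b hb
        exact hr'.mem_of_pow_mem k ((hr'.mem_or_mem (hall _ htk)).resolve_left fun h => ht (hr'r h))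
    rw [← hbr x hx] at h3
    obtain ⟨i, hi⟩ := h x hx hfx h3
    exact (QCoh.mem_basicOpen_iff_notMem hU hx _).1 hi (hg i)

end Groth.Agent.RelAssGen
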